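import Cfsg.Agent.HeldCent.BadDefs

/-!
The checks of table 3, in pieces.
-/

set_option autoImplicit false
set_option maxRecDepth 100000
set_option Elab.async false

namespace Cfsg.Lib.HeldCent

theorem bad3_scan0 : allP bad3.sqScan 12 0 = true := by decide +kernel

theorem bad3_scan1 : allP bad3.sqScan 12 4096 = true := by decide +kernel

theorem bad3_scan2 : allP bad3.sqScan 12 8192 = true := by decide +kernel

theorem bad3_scan3 : allP bad3.sqScan 12 12288 = true := by decide +kernel

theorem bad3_scan4 : allP bad3.sqScan 12 16384 = true := by decide +kernel

theorem bad3_scan5 : allP bad3.sqScan 12 20480 = true := by decide +kernel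

theorem bad3_cls0 : (bad3.cls[0]?).all bad3.clsChk = true := by decide +kernel

theorem bad3_cls1 : (bad3.cls[1]?).all bad3.clsChk = true := by decide +kernel

theorem bad3_cls2 : (bad3.cls[2]?).all bad3.clsChk = true := by decide +kernel

theorem bad3_cls3 : (bad3.cls[3]?).all bad3.clsChk = true := by decide +kernel

theorem bad3_len : bad3.cls.length = 4 := by decide +kernel

theorem bad3_inv : bad3.invOK = true := by decide +kernel

end Cfsg.Lib.HeldCent
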