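import Cfsg.Agent.HeldCent.BadData

/-!
The checks of the tables.
-/

set_option autoImplicit false
set_option maxRecDepth 100000

namespace Cfsg.Lib.HeldCent

/-- A predicate on a block of length a power of two. -/
def allP (p : ℕ → Bool) : ℕ → ℕ → Bool
  | 0, lo => p lo
  | d + 1, lo => allP p d lo && allP p d (lo + 2 ^ d)

/-- The number of hits in a block of length a power of two. -/
def cntP (p : ℕ → Bool) : ℕ → ℕ → ℕ
  | 0, lo => bif p lo then 1 else 0
  | d + 1, lo => cntP p d lo + cntP p d (lo + 2 ^ d)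

/-- The parameters of a table. -/
def BadD.par (T : BadD) : Par := parL.getD T.idx ⟨0, 0, 0⟩

/-- The code lies in the distinguished subgroup. -/
def BadD.inE (T : BadD) (a : ℕ) : Bool := Nat.blt a 128 && Nat.beq (Nat.land a T.sub) 0

/-- The squares are as tabled. -/
def BadD.sqScan (T : BadD) (x : ℕ) : Bool :=
  !Nat.blt x 21504 ||
    ((!Nat.beq (mul T.par x x) 0 || Nat.beq x 0 || Nat.beq x 64 || Nat.testBit T.imask x) &&
      (Nat.testBit T.tmask x == Nat.beq (mul T.par x x) 64) &&
      T.cls.all fun c => Nat.testBit c.2.1 x == Nat.beq (mul T.par x x) c.1)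

/-- The invariants of a class. -/
def BadD.clsChk (T : BadD) (c : ℕ × ℕ × ℕ × ℕ) : Bool :=
  Nat.blt c.1 21504 &&
    Nat.beq (cntP (fun x => Nat.blt x 21504 && Nat.testBit c.2.1 x) 15 0) c.2.2.1 &&
    Nat.beq (cntP (fun x => Nat.blt x 21504 && Nat.testBit T.tmask x && Nat.beq (mul T.par x c.1) (mul T.par c.1 x)) 15 0)
      c.2.2.2

/-- The invariants of the classes. -/
def BadD.clsOK (T : BadD) : Bool := T.cls.all T.clsChk

/-- The class has a partner for the exchange of the central involution. -/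
def BadD.passes (T : BadD) (c : ℕ × ℕ × ℕ × ℕ) : Bool :=
  T.cls.any fun d => Nat.beq c.2.2.1 d.2.2.2 && Nat.beq c.2.2.2 d.2.2.1

/-- The involutions are as tabled. -/
def BadD.invOK (T : BadD) : Bool :=
  Nat.beq T.imask (T.invs.foldl (fun acc p => Nat.lor acc (2 ^ p.1)) 0) &&
    T.invs.all fun p => Nat.blt p.1 21504 && Nat.blt p.2.1 21504 &&
      match T.cls[p.2.2]? with
      | some c => Nat.beq (mul T.par p.2.1 c.1) (mul T.par p.1 p.2.1) && (!T.passes c || T.inE p.1)
      | none => false

end Cfsg.Lib.HeldCent
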