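import Cfsg.Agent.HeldCent.Iso
import Cfsg.Agent.HeldCent.BadDefs

/-!
Meaning of the tables: which involutions can be exchanged with the central one.
-/

set_option autoImplicit false
set_option linter.unusedSimpArgs false
set_option maxRecDepth 100000

namespace Cfsg.Lib.HeldCent

theorem allP_sound (p : ℕ → Bool) : ∀ (d lo : ℕ), allP p d lo = true → ∀ x, lo ≤ x → x < lo + 2 ^ d → p x = true
  | 0, lo, h, x, h1, h2 => by
    obtain rfl : x = lo := by omega
    exact h
  | d + 1, lo, h, x, h1, h2 => by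
    simp only [allP, Bool.and_eq_true] at h
    have e : 2 ^ (d + 1) = 2 ^ d + 2 ^ d := by rw [pow_succ]; omega
    rcases Nat.lt_or_ge x (lo + 2 ^ d) with h3 | h3
    · exact allP_sound p d lo h.1 x h1 h3
    · exact allP_sound p d _ h.2 x h3 (by omega)

theorem cntP_eq (p : ℕ → Bool) : ∀ (d lo : ℕ),
    cntP p d lo = ((Finset.Ico lo (lo + 2 ^ d)).filter fun x => p x = true).card
  | 0, lo => by
    rw [pow_zero, Nat.Ico_succ_singleton, Finset.filter_singleton]
    cases h : p lo <;> simp [cntP, h]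
  | d + 1, lo => by
    have e : 2 ^ (d + 1) = 2 ^ d + 2 ^ d := by rw [pow_succ]; omega
    rw [cntP, cntP_eq p d lo, cntP_eq p d (lo + 2 ^ d), e, ← Nat.add_assoc,
      ← Finset.card_union_of_disjoint (Finset.disjoint_filter_filter (Finset.Ico_disjoint_Ico_consecutive _ _ _)),
      ← Finset.filter_union, Finset.Ico_union_Ico_eq_Ico (Nat.le_add_right _ _) (Nat.le_add_right _ _)]

theorem testBit_foldl : ∀ (L : List (ℕ × ℕ × ℕ)) (acc x : ℕ),
    (L.foldl (fun acc p => Nat.lor acc (2 ^ p.1)) acc).testBit x = true → acc.testBit x = true ∨ ∃ p ∈ L, p.1 = x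
  | [], _, _, h => Or.inl h
  | p :: L, acc, x, h => by
    rcases testBit_foldl L _ x h with h' | ⟨q, hq, hqx⟩
    · change (acc ||| 2 ^ p.1).testBit x = true at h'
      rw [Nat.testBit_or, Bool.or_eq_true] at h'
      rcases h' with h' | h'
      · exact Or.inl h'
      · rw [Nat.testBit_two_pow] at h'
        exact Or.inr ⟨p, by simp, by simpa using h'⟩
    · exact Or.inr ⟨q, by simp [hq], hqx⟩

/-- The square roots of an element. -/
noncomputable def ra {C : Type*} [Group C] (a : C) : ℕ := Nat.card {y : C // y * y = a}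

/-- The square roots of the central involution commuting with an element. -/
noncomputable def rt {C : Type*} [Group C] (t a : C) : ℕ := Nat.card {y : C // y * y = t ∧ y * a = a * y}

theorem ra_conj {C : Type*} [Group C] (g a : C) : ra (g * a * g⁻¹) = ra a := by
  refine (Nat.card_congr (Equiv.subtypeEquiv (MulAut.conj g).toEquiv fun y => ?_)).symm
  show y * y = a ↔ g * y * g⁻¹ * (g * y * g⁻¹) = g * a * g⁻¹
  rw [show g * y * g⁻¹ * (g * y * g⁻¹) = g * (y * y) * g⁻¹ by group]
  simp

theorem rt_conj {C : Type*} [Group C] {t : C} (tc : ∀ g, t * g = g * t) (g a : C) : rt t (g * a * g⁻¹) = rt t a := by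
  refine (Nat.card_congr (Equiv.subtypeEquiv (MulAut.conj g).toEquiv fun y => ?_)).symm
  show y * y = t ∧ y * a = a * y ↔
    g * y * g⁻¹ * (g * y * g⁻¹) = t ∧ g * y * g⁻¹ * (g * a * g⁻¹) = g * a * g⁻¹ * (g * y * g⁻¹)
  rw [show g * y * g⁻¹ * (g * y * g⁻¹) = g * (y * y) * g⁻¹ by group,
    show g * y * g⁻¹ * (g * a * g⁻¹) = g * (y * a) * g⁻¹ by group,
    show g * a * g⁻¹ * (g * y * g⁻¹) = g * (a * y) * g⁻¹ by group]
  refine and_congr ?_ (by simp)
  constructor
  · rintro h; rw [h, ← tc g, mul_inv_cancel_right]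
  · intro h
    have : g * (y * y) * g⁻¹ = g * t * g⁻¹ := by rw [h, ← tc g, mul_inv_cancel_right]
    simpa using this

variable {T : BadD} {C : Type*} [Group C] (D : Gen T.par C) (hP : parOK T.par = true)
  (hinj : Set.InjOn D.η {a | a < 21504}) (hsur : ∀ g, ∃ a < 21504, D.η a = g)

include hinj hsur in
theorem card_count (q : C → Prop) (p : ℕ → Bool) (hpq : ∀ x < 21504, (q (D.η x) ↔ p x = true))
    (hlt : ∀ x, p x = true → x < 21504) : Nat.card {y // q y} = cntP p 15 0 := by
  rw [cntP_eq, Nat.zero_add]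
  have e : {x : ℕ // x ∈ (Finset.Ico 0 (2 ^ 15)).filter fun x => p x = true} ≃ {y // q y} := by
    refine Equiv.ofBijective (fun x => ⟨D.η x.1, (hpq _ (hlt _ (Finset.mem_filter.mp x.2).2)).mpr (Finset.mem_filter.mp x.2).2⟩)
      ⟨fun a b h => Subtype.ext (hinj (hlt _ (Finset.mem_filter.mp a.2).2) (hlt _ (Finset.mem_filter.mp b.2).2)
        (congrArg Subtype.val h)), fun y => ?_⟩
    obtain ⟨a, ha, he⟩ := hsur y.1
    have hp : p a = true := (hpq a ha).mp (he ▸ y.2)
    exact ⟨⟨a, Finset.mem_filter.mpr ⟨Finset.mem_Ico.mpr ⟨Nat.zero_le _, by norm_num; omega⟩, hp⟩⟩, Subtype.ext he⟩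
  rw [← Nat.card_congr e, Nat.card_eq_fintype_card, Fintype.card_coe]

include hP hinj hsur in
/-- An involution having a partner for the exchange lies in the distinguished subgroup. -/
theorem sound (hscan : ∀ x < 21504, T.sqScan x = true) (hcls : T.clsOK = true) (hinv : T.invOK = true)
    {a : C} (ha2 : a * a = 1) (ha1 : a ≠ 1) (hat : a ≠ D.B.g 6) {b : C} (hb2 : b * b = 1) (hb1 : b ≠ 1)
    (hbt : b ≠ D.B.g 6) (h1 : rt (D.B.g 6) b = ra a) (h2 : ra b = rt (D.B.g 6) a) :
    ∃ q < 128, T.inE q = true ∧ a = D.B.ι q := by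
  set t := D.B.g 6
  have tc : ∀ g, t * g = g * t := D.B.cen
  have ht : D.η 64 = t := by rw [D.η_code (by norm_num)]; exact D.B.ι_gen (i := 6) (by norm_num)
  have h0 : D.η 0 = 1 := by rw [D.η_code (by norm_num), D.B.ι_zero]
  have heq : ∀ {x y : ℕ}, x < 21504 → y < 21504 → ∀ {c}, c < 21504 →
      (D.η x * D.η y = D.η c ↔ mul T.par x y = c) := by
    intro x y hx hy c hc
    rw [← D.η_mul hP hx]
    exact ⟨fun h => hinj (mul_lt hP hx hy) hc h, fun h => by rw [h]⟩
  simp only [BadD.invOK, Bool.and_eq_true, List.all_eq_true] at hinv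
  obtain ⟨himask, hinvs⟩ := hinv
  simp only [BadD.clsOK, BadD.clsChk, List.all_eq_true, Bool.and_eq_true, Nat.blt_eq] at hcls
  have find : ∀ {u : C}, u * u = 1 → u ≠ 1 → u ≠ t → ∃ c ∈ T.cls, ∃ x < 21504, u = D.η x ∧
      (T.passes c = true → T.inE x = true) ∧ ra u = c.2.2.1 ∧ rt t u = c.2.2.2 := by
    intro u hu2 hu1 hut
    obtain ⟨x, hx, rfl⟩ := hsur u
    have hs := hscan x hx
    have hx2 : mul T.par x x = 0 := (heq hx hx (by norm_num)).mp (by rw [h0]; exact hu2)
    have hbx : Nat.blt x 21504 = true := by rw [Nat.blt_eq]; exact hx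
    simp only [BadD.sqScan, hbx, Bool.not_true, Bool.false_or, hx2, Nat.beq_refl, Bool.and_eq_true,
      Bool.or_eq_true] at hs
    rcases hs.1.1 with (h | h) | h
    · exact absurd (by rw [Nat.eq_of_beq_eq_true h, h0]) hu1
    · exact absurd (by rw [Nat.eq_of_beq_eq_true h, ht]) hut
    rw [Nat.eq_of_beq_eq_true himask] at h
    rcases testBit_foldl _ _ _ h with h | ⟨p, hp, rfl⟩
    · simp at h
    have hp' := hinvs p hp
    simp only [Bool.and_eq_true, Nat.blt_eq] at hp'
    obtain ⟨⟨-, hg⟩, hm⟩ := hp'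
    cases hc : T.cls[p.2.2]? with
    | none => rw [hc] at hm; simp at hm
    | some c =>
      rw [hc] at hm
      simp only [Bool.and_eq_true, Bool.or_eq_true] at hm
      have hcm : c ∈ T.cls := List.mem_of_getElem? hc
      obtain ⟨⟨hc1, hra⟩, hrt⟩ := hcls c hcm
      have hconj : D.η p.1 = D.η p.2.1 * D.η c.1 * (D.η p.2.1)⁻¹ := by
        rw [← D.η_mul hP hg, Nat.eq_of_beq_eq_true hm.1, D.η_mul hP hx, mul_inv_cancel_right]
      refine ⟨c, hcm, p.1, hx, rfl, fun hpass => ?_, ?_, ?_⟩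
      · rcases hm.2 with h | h
        · rw [hpass] at h; simp at h
        · exact h
      · rw [hconj, ra_conj, ← Nat.eq_of_beq_eq_true hra]
        refine card_count D hinj hsur (fun y => y * y = D.η c.1) _ (fun y hy => ?_) fun y hy => ?_
        · have hsy := hscan y hy
          have hby : Nat.blt y 21504 = true := by rw [Nat.blt_eq]; exact hy
          simp only [BadD.sqScan, hby, Bool.not_true, Bool.false_or, Bool.and_eq_true, List.all_eq_true] at hsy
          show D.η y * D.η y = D.η c.1 ↔ _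
          rw [heq hy hy hc1, hby, Bool.true_and, eq_of_beq (hsy.2 c hcm)]
          exact ⟨fun h => by rw [h]; exact Nat.beq_refl _, Nat.eq_of_beq_eq_true⟩
        · simp only [Bool.and_eq_true, Nat.blt_eq] at hy
          exact hy.1
      · rw [hconj, rt_conj tc, ← Nat.eq_of_beq_eq_true hrt]
        refine card_count D hinj hsur (fun y => y * y = t ∧ y * D.η c.1 = D.η c.1 * y) _ (fun y hy => ?_) fun y hy => ?_
        · have hsy := hscan y hy
          have hby : Nat.blt y 21504 = true := by rw [Nat.blt_eq]; exact hy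
          simp only [BadD.sqScan, hby, Bool.not_true, Bool.false_or, Bool.and_eq_true] at hsy
          show D.η y * D.η y = t ∧ D.η y * D.η c.1 = D.η c.1 * D.η y ↔ _
          rw [← ht, heq hy hy (by norm_num), ← D.η_mul hP hc1, heq hy hc1 (mul_lt hP hc1 hy), hby, Bool.true_and,
            eq_of_beq hsy.1.2, Bool.and_eq_true]
          exact ⟨fun h => ⟨by rw [h.1]; exact Nat.beq_refl _, by rw [h.2]; exact Nat.beq_refl _⟩,
            fun h => ⟨Nat.eq_of_beq_eq_true h.1, Nat.eq_of_beq_eq_true h.2⟩⟩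
        · simp only [Bool.and_eq_true, Nat.blt_eq] at hy
          exact hy.1.1
  obtain ⟨c, hc, x, hx, rfl, hin, hca, hct⟩ := find ha2 ha1 hat
  obtain ⟨d, hd, -, -, -, -, hda, hdt⟩ := find hb2 hb1 hbt
  have hpass : T.passes c = true := by
    simp only [BadD.passes, List.any_eq_true, Bool.and_eq_true]
    exact ⟨d, hd, by rw [← hca, ← h1, hdt]; exact Nat.beq_refl _, by rw [← hct, ← h2, hda]; exact Nat.beq_refl _⟩
  have h := hin hpass
  have h' := h
  simp only [BadD.inE, Bool.and_eq_true, Nat.blt_eq] at h'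
  exact ⟨x, h'.1, h, D.η_code h'.1⟩

end Cfsg.Lib.HeldCent
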