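import Cfsg.Agent.HeldCent.Code

/-!
Seven generators with symplectic commutation give a map on the codes.
-/

set_option autoImplicit false
set_option maxRecDepth 100000

namespace Cfsg.Lib.HeldCent

variable {C : Type*} [Group C]

/-- An optional factor. -/
def selC (b : Bool) (g : C) : C := bif b then g else 1

/-- Seven generators with the commutation of the form. -/
structure Basis (C : Type*) [Group C] where
  g : ℕ → C
  sq : ∀ i < 7, g i * g i = 1
  cen : ∀ h : C, g 6 * h = h * g 6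
  uu01 : g 1 * g 0 = g 0 * g 1
  uu02 : g 2 * g 0 = g 0 * g 2
  uu12 : g 2 * g 1 = g 1 * g 2
  pp34 : g 4 * g 3 = g 3 * g 4
  pp35 : g 5 * g 3 = g 3 * g 5
  pp45 : g 5 * g 4 = g 4 * g 5
  d30 : g 3 * g 0 = g 0 * g 3 * g 6
  d31 : g 3 * g 1 = g 1 * g 3
  d32 : g 3 * g 2 = g 2 * g 3
  d40 : g 4 * g 0 = g 0 * g 4
  d41 : g 4 * g 1 = g 1 * g 4 * g 6
  d42 : g 4 * g 2 = g 2 * g 4
  d50 : g 5 * g 0 = g 0 * g 5
  d51 : g 5 * g 1 = g 1 * g 5
  d52 : g 5 * g 2 = g 2 * g 5 * g 6

theorem selC_swap {a b : C} (h : b * a = a * b) (x : Bool) (R : C) : b * (selC x a * R) = selC x a * (b * R) := by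
  cases x <;> simp [selC, ← mul_assoc, h]

theorem selC_swap_t {a b t : C} (h : b * a = a * b * t) (ht : ∀ k : C, t * k = k * t) (x : Bool) (R : C) :
    b * (selC x a * R) = selC x a * (b * (R * selC x t)) := by
  cases x <;> simp [selC, ← mul_assoc, h]
  simp [mul_assoc, ht R]

theorem selC_flip {a : C} (h : a * a = 1) (x : Bool) (R : C) : a * (selC x a * R) = selC (!x) a * R := by
  cases x <;> simp [selC, ← mul_assoc, h]

theorem selC_t {t : C} (h : t * t = 1) (x y : Bool) : selC x t * selC y t = selC (x ^^ y) t := by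
  cases x <;> cases y <;> simp [selC, h]

variable (B : Basis C)

/-- The product with given bits. -/
def Basis.F (x0 x1 x2 x3 x4 x5 x6 : Bool) : C :=
  selC x0 (B.g 0) * (selC x1 (B.g 1) * (selC x2 (B.g 2) * (selC x3 (B.g 3) * (selC x4 (B.g 4) *
    (selC x5 (B.g 5) * selC x6 (B.g 6))))))

/-- The element of a code. -/
def Basis.ι (x : ℕ) : C :=
  B.F (x.testBit 0) (x.testBit 1) (x.testBit 2) (x.testBit 3) (x.testBit 4) (x.testBit 5) (x.testBit 6)

section
variable (a b c d e f h : Bool)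

theorem Basis.flip0 : B.g 0 * B.F a b c d e f h = B.F (!a) b c d e f h :=
  selC_flip (B.sq 0 (by norm_num)) _ _

theorem Basis.flip1 : B.g 1 * B.F a b c d e f h = B.F a (!b) c d e f h := by
  unfold Basis.F
  rw [selC_swap B.uu01, selC_flip (B.sq 1 (by norm_num))]

theorem Basis.flip2 : B.g 2 * B.F a b c d e f h = B.F a b (!c) d e f h := by
  unfold Basis.F
  rw [selC_swap B.uu02, selC_swap B.uu12, selC_flip (B.sq 2 (by norm_num))]

theorem Basis.flip6 : B.g 6 * B.F a b c d e f h = B.F a b c d e f (!h) := by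
  unfold Basis.F
  rw [B.cen]
  have h6 := B.sq 6 (by norm_num)
  cases h <;> simp [selC, mul_assoc, h6]

theorem Basis.flip3 : B.g 3 * B.F a b c d e f h = B.F a b c (!d) e f (h ^^ a) := by
  unfold Basis.F
  rw [selC_swap_t B.d30 B.cen]
  simp only [mul_assoc]
  rw [selC_swap B.d31, selC_swap B.d32, selC_flip (B.sq 3 (by norm_num)), selC_t (B.sq 6 (by norm_num))]

theorem Basis.flip4 : B.g 4 * B.F a b c d e f h = B.F a b c d (!e) f (h ^^ b) := by
  unfold Basis.F
  rw [selC_swap B.d40, selC_swap_t B.d41 B.cen]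
  simp only [mul_assoc]
  rw [selC_swap B.d42, selC_swap B.pp34, selC_flip (B.sq 4 (by norm_num)), selC_t (B.sq 6 (by norm_num))]

theorem Basis.flip5 : B.g 5 * B.F a b c d e f h = B.F a b c d e (!f) (h ^^ c) := by
  unfold Basis.F
  rw [selC_swap B.d50, selC_swap B.d51, selC_swap_t B.d52 B.cen]
  simp only [mul_assoc]
  rw [selC_swap B.pp35, selC_swap B.pp45, selC_flip (B.sq 5 (by norm_num)), selC_t (B.sq 6 (by norm_num))]

end

/-- The seven bits. -/
def bits7 (x : ℕ) : List Bool := (List.range 7).map x.testBit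

/-- The bits after multiplying by a generator. -/
def flipL (i : ℕ) (x : ℕ) : List Bool :=
  let t : ℕ → Bool := fun j => (x.testBit j ^^ (i == j)) ^^ (j == 6 && decide (3 ≤ i) && decide (i ≤ 5) && x.testBit (i - 3))
  (List.range 7).map t

theorem flipL_ok : ∀ i : Fin 7, ∀ x : Fin 128, bits7 (qm (2 ^ i.val) x.val) = flipL i.val x.val := by decide +kernel

theorem qm_lt : ∀ x : Fin 128, ∀ y : Fin 128, qm x.val y.val < 128 := by decide +kernel

theorem qm_range {x y : ℕ} (hx : x < 128) (hy : y < 128) : qm x y < 128 := qm_lt ⟨x, hx⟩ ⟨y, hy⟩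

theorem Basis.gen_mul {i x : ℕ} (hi : i < 7) (hx : x < 128) : B.g i * B.ι x = B.ι (qm (2 ^ i) x) := by
  have h := flipL_ok ⟨i, hi⟩ ⟨x, hx⟩
  simp only [bits7, flipL, List.range_succ, List.range_zero, List.nil_append, List.map_cons,
    List.map_nil, List.cons_append, List.cons.injEq, and_true] at h
  obtain ⟨h0, h1, h2, h3, h4, h5, h6⟩ := h
  unfold Basis.ι
  rw [h0, h1, h2, h3, h4, h5, h6]
  interval_cases i
  · simp [B.flip0]
  · simp [B.flip1]
  · simp [B.flip2]
  · simp [B.flip3]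
  · simp [B.flip4]
  · simp [B.flip5]
  · simp [B.flip6]

theorem Basis.ι_zero : B.ι 0 = 1 := by simp [Basis.ι, Basis.F, selC]

/-- Multiplication by the word of a code. -/
def pre7 (x y : ℕ) : ℕ :=
  let p : ℕ → ℕ → ℕ := fun i z => bif x.testBit i then qm (2 ^ i) z else z
  p 0 (p 1 (p 2 (p 3 (p 4 (p 5 (p 6 y))))))

theorem pre7_ok : ∀ x : Fin 128, ∀ y : Fin 128, pre7 x.val y.val = qm x.val y.val := by decide +kernel

theorem Basis.ι_mul {x y : ℕ} (hx : x < 128) (hy : y < 128) : B.ι (qm x y) = B.ι x * B.ι y := by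
  have step : ∀ i < 7, ∀ z < 128, selC (x.testBit i) (B.g i) * B.ι z =
      B.ι (bif x.testBit i then qm (2 ^ i) z else z) ∧ (bif x.testBit i then qm (2 ^ i) z else z) < 128 := by
    intro i hi z hz
    cases x.testBit i
    · exact ⟨one_mul _, hz⟩
    · exact ⟨B.gen_mul hi hz, qm_range (lt_of_le_of_lt (Nat.pow_le_pow_right (by norm_num) (by omega : i ≤ 6)) (by norm_num)) hz⟩
  rw [← pre7_ok ⟨x, hx⟩ ⟨y, hy⟩]
  show B.ι (pre7 x y) = B.F _ _ _ _ _ _ _ * B.ι y
  obtain ⟨e6, l6⟩ := step 6 (by norm_num) y hy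
  obtain ⟨e5, l5⟩ := step 5 (by norm_num) _ l6
  obtain ⟨e4, l4⟩ := step 4 (by norm_num) _ l5
  obtain ⟨e3, l3⟩ := step 3 (by norm_num) _ l4
  obtain ⟨e2, l2⟩ := step 2 (by norm_num) _ l3
  obtain ⟨e1, l1⟩ := step 1 (by norm_num) _ l2
  obtain ⟨e0, l0⟩ := step 0 (by norm_num) _ l1
  simp only [Basis.F, mul_assoc, e6, e5, e4, e3, e2, e1, e0]
  rfl

theorem Basis.ι_gen {i : ℕ} (hi : i < 7) : B.ι (2 ^ i) = B.g i := by
  interval_cases i <;> simp [Basis.ι, Basis.F, selC, Nat.testBit, Nat.shiftRight_eq_div_pow]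

theorem Basis.ι_sel {b : Bool} {z : ℕ} : B.ι (sel b z) = selC b (B.ι z) := by
  cases b <;> simp [sel, selC, B.ι_zero]

theorem sel_lt {b : Bool} {z : ℕ} (h : z < 128) : sel b z < 128 := by cases b <;> simp [sel, h]

theorem word7_lt {im : ℕ → ℕ} (him : ∀ i < 7, im i < 128) (z : ℕ) : word7 im z < 128 := by
  unfold word7
  refine qm_range (qm_range (qm_range ?_ ?_) ?_) (qm_range (qm_range (qm_range ?_ ?_) ?_) ?_) <;>
    exact sel_lt (him _ (by norm_num))

/-- A map acting on the generators through given codes acts on all codes through the words. -/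
theorem Basis.map_ι {D : Type*} [Group D] (B' : Basis D) (φ : C →* D) {im : ℕ → ℕ} (him : ∀ i < 7, im i < 128)
    (h : ∀ i < 7, φ (B.g i) = B'.ι (im i)) (z : ℕ) : φ (B.ι z) = B'.ι (word7 im z) := by
  have key : ∀ (b : Bool) (i : ℕ), i < 7 → φ (selC b (B.g i)) = B'.ι (sel b (im i)) := fun b i hi => by
    rw [B'.ι_sel]
    cases b
    · exact map_one φ
    · exact h i hi
  have hl : ∀ {b : Bool} {i : ℕ}, i < 7 → sel b (im i) < 128 := fun hi => sel_lt (him _ hi)
  simp only [Basis.ι, Basis.F, map_mul]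
  rw [key _ 0 (by norm_num), key _ 1 (by norm_num), key _ 2 (by norm_num), key _ 3 (by norm_num),
    key _ 4 (by norm_num), key _ 5 (by norm_num), key _ 6 (by norm_num)]
  show _ = B'.ι (word7 im z)
  unfold word7
  rw [B'.ι_mul (qm_range (qm_range (hl (by norm_num)) (hl (by norm_num))) (hl (by norm_num)))
      (qm_range (qm_range (qm_range (hl (by norm_num)) (hl (by norm_num))) (hl (by norm_num))) (hl (by norm_num))),
    B'.ι_mul (qm_range (hl (by norm_num)) (hl (by norm_num))) (hl (by norm_num)),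
    B'.ι_mul (hl (by norm_num)) (hl (by norm_num)),
    B'.ι_mul (qm_range (qm_range (hl (by norm_num)) (hl (by norm_num))) (hl (by norm_num))) (hl (by norm_num)),
    B'.ι_mul (qm_range (hl (by norm_num)) (hl (by norm_num))) (hl (by norm_num)),
    B'.ι_mul (hl (by norm_num)) (hl (by norm_num))]
  simp only [mul_assoc]


theorem detect : ∀ x : Fin 128, x.val = 0 ∨ x.val = 64 ∨ ∃ i : Fin 6,
    Nat.xor (qm (2 ^ i.val) x.val) 64 = qm x.val (2 ^ i.val) := by decide +kernel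

theorem qm_top : ∀ x : Fin 128, qm x.val 64 = Nat.xor x.val 64 := by decide +kernel

theorem Basis.eq_zero (h6 : B.g 6 ≠ 1) {x : ℕ} (hx : x < 128) (h : B.ι x = 1) : x = 0 := by
  rcases detect ⟨x, hx⟩ with h0 | h0 | ⟨i, hi⟩
  · exact h0
  · refine absurd ?_ h6
    simp only at h0
    rw [h0, show (64 : ℕ) = 2 ^ 6 by norm_num, B.ι_gen (by norm_num)] at h
    exact h
  · refine absurd ?_ h6
    have hg : 2 ^ i.val < 128 := lt_of_lt_of_le
      (Nat.pow_lt_pow_right (by norm_num) i.isLt) (by norm_num)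
    have h1 : qm (2 ^ i.val) x < 128 := qm_range hg hx
    have e : B.ι (qm (qm (2 ^ i.val) x) 64) = B.ι (qm x (2 ^ i.val)) := by rw [qm_top ⟨_, h1⟩]; rw [hi]
    rw [B.ι_mul h1 (by norm_num), B.ι_mul hg hx, B.ι_mul hx hg, h, mul_one, one_mul,
      show (64 : ℕ) = 2 ^ 6 by norm_num, B.ι_gen (i := 6) (by norm_num)] at e
    exact mul_eq_left.mp e

theorem qm_qi : ∀ x : Fin 128, qi x.val < 128 ∧ qm x.val (qi x.val) = 0 ∧ qm (qi x.val) x.val = 0 := by decide +kernel

theorem qm_cancel : ∀ x : Fin 128, ∀ y : Fin 128, qm (qi x.val) y.val = 0 → x.val = y.val := by decide +kernel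

theorem Basis.ι_qi {x : ℕ} (hx : x < 128) : B.ι (qi x) = (B.ι x)⁻¹ := by
  obtain ⟨h1, -, h2⟩ := qm_qi ⟨x, hx⟩
  refine eq_inv_of_mul_eq_one_left ?_
  rw [← B.ι_mul h1 hx, h2, B.ι_zero]

theorem Basis.ι_inj (h6 : B.g 6 ≠ 1) {x y : ℕ} (hx : x < 128) (hy : y < 128) (h : B.ι x = B.ι y) : x = y := by
  have h1 := (qm_qi ⟨x, hx⟩).1
  refine qm_cancel ⟨x, hx⟩ ⟨y, hy⟩ (B.eq_zero h6 (qm_range h1 hy) ?_)
  rw [B.ι_mul h1 hy, B.ι_qi hx, h, inv_mul_cancel]

end Cfsg.Lib.HeldCent
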