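import Cfsg.Agent.HeldCent.Code

/-!
The finite computations selecting the six sets of parameters.
-/

set_option autoImplicit false
set_option maxRecDepth 100000

namespace Cfsg.Lib.HeldCent

/-- A predicate on the naturals below a bound. -/
def allB (p : ℕ → Bool) : ℕ → Bool
  | 0 => true
  | n + 1 => p n && allB p n

theorem allB_sound (p : ℕ → Bool) : ∀ {n : ℕ}, allB p n = true → ∀ k < n, p k = true
  | 0, _, k, hk => absurd hk (Nat.not_lt_zero k)
  | n + 1, h, k, hk => by
    simp only [allB, Bool.and_eq_true] at h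
    rcases Nat.lt_succ_iff_lt_or_eq.mp hk with hk | rfl
    · exact allB_sound p h.2 k hk
    · exact h.1

/-- The conjugate of a code. -/
def qconj (w a : ℕ) : ℕ := qm (qm w a) (qi w)

/-- The images of the two fixed generators can be normalised. -/
def normOK (z1 z8 : ℕ) : Bool :=
  [0, 1, 8, 9].any fun q => Nat.beq (pk (rT 1) q) q &&
    ((Nat.beq (qconj q z1) 1 && Nat.beq (qconj q z8) 8) || (Nat.beq (qconj q z1) 8 && Nat.beq (qconj q z8) 1))

/-- The conditions on the images of two fixed generators. -/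
def fixCond (z1 z8 : ℕ) : Bool :=
  Nat.beq (qm z1 z1) 0 && Nat.beq (pk (rT 2) z1) z1 && Nat.beq (qm z8 z8) 0 && Nat.beq (pk (rT 2) z8) z8 &&
    Nat.beq (qm z8 z1) (Nat.xor (qm z1 z8) 64)

theorem norm_ok0 : allB (fun z1 => allB (fun z8 => !fixCond z1 z8 || normOK z1 z8) 128) 128 = true := by decide +kernel

theorem norm_ok {z1 z8 : ℕ} (h1 : z1 < 128) (h8 : z8 < 128) (h : fixCond z1 z8 = true) :
    ∃ q < 128, pk (rT 1) q = q ∧ ((qconj q z1 = 1 ∧ qconj q z8 = 8) ∨ (qconj q z1 = 8 ∧ qconj q z8 = 1)) := by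
  have := allB_sound _ (allB_sound _ norm_ok0 z1 h1) z8 h8
  rw [h] at this
  simp only [Bool.not_true, Bool.false_or, normOK, List.any_eq_true, Bool.and_eq_true, Bool.or_eq_true] at this
  obtain ⟨q, hq, hr, hc⟩ := this
  refine ⟨q, ?_, Nat.eq_of_beq_eq_true hr, hc.imp ?_ ?_⟩
  · simp only [List.mem_cons, List.not_mem_nil, or_false] at hq
    omega
  all_goals exact fun h => ⟨Nat.eq_of_beq_eq_true h.1, Nat.eq_of_beq_eq_true h.2⟩

/-- Necessary conditions on the image of the second generator. -/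
def xOK (ce cf x : ℕ) : Bool :=
  Nat.beq (qm x x) 0 && Nat.beq (pk (rT 2) (pk (rT 2) x)) (qm x (pk (rT 2) x)) && Nat.beq (qm x ce) (qm ce x) &&
    Nat.beq (qm x cf) (qm cf x)

/-- The seven generating codes. -/
def genL : List ℕ := [1, 2, 4, 8, 16, 32, 64]

/-- The conditions on the action of an extending element. -/
def actOK (T : ℕ → ℕ) : Bool :=
  (genL.all fun a => genL.all fun b => Nat.beq (T (qm a b)) (qm (T a) (T b))) &&
  (genL.all fun a => Nat.beq (T (pk (rT 1) a)) (pk (rT 2) (T a))) &&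
  (genL.all fun a => Nat.beq (Nat.land (T (T a)) 63) (Nat.land a 63)) &&
  genL.all fun a => Nat.beq (Nat.land (pk (sT 1) (T (pk (sT 1) (T (pk (sT 1) (T a)))))) 63) (Nat.land a 63)

/-- The possible images. -/
def isCand (sw : Bool) (x y : ℕ) : Bool :=
  !sw && ((Nat.beq x 4 && Nat.beq y 40) || (Nat.beq x 4 && Nat.beq y 106) || (Nat.beq x 84 && Nat.beq y 40))

/-- All images satisfying the conditions are among the possible ones. -/
def searchOK (sw : Bool) (ce cf : ℕ) : Bool :=
  allB (fun x => !xOK ce cf x || allB (fun y => !actOK (word7 (imG ce cf x y)) || isCand sw x y) 128) 128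

theorem search_plain : searchOK false 1 8 = true := by decide +kernel

theorem search_swap : searchOK true 8 1 = true := by decide +kernel

theorem parL_ok : ∀ P ∈ parL, ((List.range 128).all fun z => Nat.blt (pk P.tab z) 128) = true ∧ P.z2 < 128 ∧ P.z3 < 128 := by
  decide +kernel

theorem tab_ok :
    (List.range 128).all (fun z => Nat.beq (pk (parL.getD 0 ⟨0, 0, 0⟩).tab z) (word7 (imG 1 8 4 40) z) &&
      Nat.beq (pk (parL.getD 1 ⟨0, 0, 0⟩).tab z) (word7 (imG 1 8 4 40) z) &&
      Nat.beq (pk (parL.getD 2 ⟨0, 0, 0⟩).tab z) (word7 (imG 1 8 4 106) z) &&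
      Nat.beq (pk (parL.getD 3 ⟨0, 0, 0⟩).tab z) (word7 (imG 1 8 4 106) z) &&
      Nat.beq (pk (parL.getD 4 ⟨0, 0, 0⟩).tab z) (word7 (imG 1 8 84 40) z) &&
      Nat.beq (pk (parL.getD 5 ⟨0, 0, 0⟩).tab z) (word7 (imG 1 8 84 40) z)) = true := by decide +kernel

/-- The conditions on the square of an extending element. -/
def sqCond (T : ℕ → ℕ) (w : ℕ) : Bool :=
  Nat.beq (pk (rT 1) w) w && Nat.beq (T w) w && genL.all fun a => Nat.beq (qconj w a) (T (T a))

/-- The conditions on the cube of the product with the element of order 7. -/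
def cubeCond (T : ℕ → ℕ) (u : ℕ) : Bool :=
  genL.all fun a => Nat.beq (qconj u a) (pk (sT 1) (T (pk (sT 1) (T (pk (sT 1) (T a))))))

/-- For a possible image the square and cube are determined. -/
def pairOK (x y : ℕ) : Bool :=
  allB (fun w => !sqCond (word7 (imG 1 8 x y)) w || Nat.beq w 0 || Nat.beq w 64) 128 &&
    allB (fun u => !cubeCond (word7 (imG 1 8 x y)) u ||
      Nat.beq u (bif Nat.beq x 84 then 32 else bif Nat.beq y 40 then 0 else 4)) 64

theorem pairs_ok : pairOK 4 40 = true ∧ pairOK 4 106 = true ∧ pairOK 84 40 = true := by decide +kernel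

/-- The parameters of a possible image with a given square. -/
def parOf (x y w : ℕ) : Par :=
  parL.getD ((bif Nat.beq x 84 then 4 else bif Nat.beq y 40 then 0 else 2) + (bif Nat.beq w 0 then 0 else 1)) ⟨0, 0, 0⟩

end Cfsg.Lib.HeldCent
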