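import Cfsg.Agent.HeldCent.Code

/-!
Elements of SL(3,2) and the lifting of elements of odd prime order through a normal 2-subgroup.
-/

set_option autoImplicit false
set_option maxRecDepth 100000

namespace Cfsg.Lib.HeldCent

open Matrix Subgroup

/-- The linear group. -/
abbrev L3 : Type := Matrix.SpecialLinearGroup (Fin 3) (ZMod 2)

/-- The image of the element of order 7. -/
def mS : L3 := ⟨!![0, 1, 1; 1, 1, 0; 1, 0, 0], by decide +kernel⟩

/-- The image of the element of order 3. -/
def mR : L3 := ⟨!![1, 0, 1; 1, 1, 1; 1, 0, 0], by decide +kernel⟩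

/-- The image of the inverting involution. -/
def mK : L3 := ⟨!![0, 0, 1; 1, 1, 1; 1, 0, 0], by decide +kernel⟩

theorem mat_rels : mS ^ 7 = 1 ∧ mR ^ 3 = 1 ∧ mR * mS * mR⁻¹ = mS ^ 2 ∧ mK * mK = 1 ∧ mK * mR * mK⁻¹ = mR⁻¹ ∧
    (mS * mK) ^ 3 = 1 ∧ mS ≠ 1 ∧ mR ≠ 1 ∧ mK ≠ 1 := by decide +kernel

/-- A coset factor in the linear group. -/
def mW : ℕ → L3
  | 0 => 1
  | l + 1 => mK * mS ^ l

/-- An element of the linear group in normal form. -/
def mE (j : ℕ) : L3 := mS ^ (j % 7) * mR ^ (j / 7 % 3) * mW (j / 21)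

/-- The nine bits of a matrix. -/
def keyM (M : L3) : ℕ :=
  (List.range 9).foldl (fun acc i => acc + 2 ^ i * (M.1 (Fin.ofNat 3 (i / 3)) (Fin.ofNat 3 (i % 3))).val) 0

/-- The position of a matrix in the normal forms. -/
def mIdx : ℕ := 0x29069a6b0000003800725a001200005ea60000322000004c7e00000a7900008a0043180094000000508d2f660000000000000000000000003657408200000000000000000000170000460002680009008b0025002a00a500006e00398f0071009d005f00520000007799101e00000000000000000000001d009e910049002e00007f009675000000000000000000785100003b1a00005d00000e00452300000800646900370005560000a78500000000000000000000000f6f00004d8700650044007b00a200938e00000c610000000000000000000000162d00009f58003e001c0080000000283500004773000000000000000000000098630000263c004f00002200540d0089000034007c9b0000700400009241000000000000000000113048a1000000006a811960000000000000000000000000007d002c03005b008c00140033001b0000a400274e0083004b00550097006c001f677486000000000000000000000000a03f3a0b0000000000000000000000000000071576a3000000005c3d884a0000426d0000212b0000849c00006213000031019553000000005924907a000000000000000000000000000000000000000000000000000000000000000000000000000000000000000000000000000000000000000000000000000000000000000000000000000000000000000000000000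

theorem mE_ok : ∀ j : Fin 168, pk mIdx (keyM (mE j.val)) = j.val := by decide +kernel

theorem mE_inj {i j : ℕ} (hi : i < 168) (hj : j < 168) (h : mE i = mE j) : i = j := by
  have h1 : pk mIdx (keyM (mE i)) = i := mE_ok ⟨i, hi⟩
  have h2 : pk mIdx (keyM (mE j)) = j := mE_ok ⟨j, hj⟩
  rw [← h1, ← h2, h]

variable {C : Type*} [Group C] [Finite C] {L : Type*} [Group L] (π : C →* L)

/-- Two elements of odd prime order with the same image are conjugate under the kernel. -/
theorem conj_of_same_image {p : ℕ} [hp : Fact p.Prime] (hker : Nat.card π.ker = 128) (hp2 : p ≠ 2) {a b : C}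
    (ha : a ^ p = 1) (hb : b ^ p = 1) (hab : π a = π b) (hne : π a ≠ 1) :
    ∃ q ∈ π.ker, q * a * q⁻¹ = b := by
  let H : Subgroup C := (Subgroup.zpowers (π a)).comap π
  have haH : a ∈ H := Subgroup.mem_zpowers _
  have hbH : b ∈ H := by show π b ∈ Subgroup.zpowers (π a); rw [← hab]; exact Subgroup.mem_zpowers _
  have ho : orderOf (π a) = p := orderOf_eq_prime (by rw [← map_pow, ha, map_one]) hne
  let f : H →* L := π.comp H.subtype
  have hr : f.range = Subgroup.zpowers (π a) := by
    refine le_antisymm ?_ (Subgroup.zpowers_le.mpr ⟨⟨a, haH⟩, rfl⟩)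
    rintro _ ⟨x, rfl⟩
    exact x.2
  have hk : Nat.card f.ker = 128 := by
    rw [← hker]
    exact Nat.card_congr
      { toFun := fun x => ⟨x.1.1, x.2⟩
        invFun := fun x => ⟨⟨x.1, by show π x.1 ∈ Subgroup.zpowers (π a); rw [MonoidHom.mem_ker.mp x.2]; exact one_mem _⟩, x.2⟩
        left_inv := fun _ => rfl
        right_inv := fun _ => rfl }
  have hcard : Nat.card H = 128 * p := by
    rw [← Subgroup.card_mul_index f.ker, Subgroup.index_ker, hk, hr, Nat.card_zpowers, ho]
  have syl : ∀ x : C, x ^ p = 1 → π x ≠ 1 → ∀ hx : x ∈ H, ∃ P : Sylow p H, (P : Subgroup H) = zpowers ⟨x, hx⟩ := by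
    intro x hxp hx1 hx
    have hox : orderOf (⟨x, hx⟩ : H) = p :=
      orderOf_eq_prime (Subtype.ext hxp) fun h => hx1 (by rw [show x = 1 from congrArg Subtype.val h, map_one])
    have hP : IsPGroup p (zpowers (⟨x, hx⟩ : H)) := IsPGroup.of_card (n := 1) (by rw [Nat.card_zpowers, hox, pow_one])
    refine ⟨hP.toSylow ?_, rfl⟩
    intro hd
    have h1 := Subgroup.card_mul_index (zpowers (⟨x, hx⟩ : H))
    rw [Nat.card_zpowers, hox, hcard, mul_comm 128] at h1
    rw [Nat.eq_of_mul_eq_mul_left hp.out.pos h1] at hd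
    exact hp2 ((Nat.prime_dvd_prime_iff_eq hp.out Nat.prime_two).mp
      (hp.out.dvd_of_dvd_pow (show p ∣ 2 ^ 7 by norm_num; exact hd)))
  obtain ⟨P, hP⟩ := syl a ha hne haH
  obtain ⟨P', hP'⟩ := syl b hb (hab ▸ hne) hbH
  obtain ⟨⟨g, hg⟩, hgP⟩ := MulAction.exists_smul_eq H P P'
  obtain ⟨i, hi⟩ := Subgroup.mem_zpowers_iff.mp (show π g ∈ Subgroup.zpowers (π a) from hg)
  have hmem : (⟨g, hg⟩ * ⟨a, haH⟩ * (⟨g, hg⟩)⁻¹ : H) ∈ (P' : Subgroup H) := by
    rw [← hgP, Sylow.coe_subgroup_smul, Subgroup.mem_smul_pointwise_iff_exists]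
    exact ⟨⟨a, haH⟩, hP ▸ Subgroup.mem_zpowers _, rfl⟩
  rw [hP'] at hmem
  obtain ⟨j, hj⟩ := Subgroup.mem_zpowers_iff.mp hmem
  have hjv : b ^ j = g * a * g⁻¹ := by
    have := congrArg Subtype.val hj
    simpa using this
  have hq : g * (a ^ i)⁻¹ ∈ π.ker := by
    rw [MonoidHom.mem_ker, map_mul, map_inv, map_zpow, hi, mul_inv_cancel]
  refine ⟨_, hq, ?_⟩
  have e : g * (a ^ i)⁻¹ * a * (g * (a ^ i)⁻¹)⁻¹ = g * a * g⁻¹ := by group
  rw [e, ← hjv]
  have h2 : π a ^ j = π a := by
    rw [hab, ← map_zpow, hjv, map_mul, map_mul, map_inv, ← hi, ← hab]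
    group
  have h3 : (j : ℤ) ≡ 1 [ZMOD (p : ℤ)] := by
    rw [← ho, ← zpow_eq_zpow_iff_modEq, h2, zpow_one]
  have hbp : orderOf b = p := orderOf_eq_prime hb fun h => hne (by rw [hab, h, map_one])
  conv_rhs => rw [← zpow_one b]
  rw [zpow_eq_zpow_iff_modEq, hbp]
  exact h3

end Cfsg.Lib.HeldCent
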