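import Cfsg.Agent.HeldCent.Mult
import Cfsg.Agent.HeldCent.Quot
import Cfsg.Agent.HeldCent.Cands

/-!
A group with a normal extraspecial subgroup of order 128 containing its centraliser, with quotient
SL(3,2), is one of six extensions.
-/

set_option autoImplicit false
set_option linter.unusedSimpArgs false
set_option maxRecDepth 100000

namespace Cfsg.Lib.HeldCent

open Subgroup

theorem land_qconj : ∀ w : Fin 128, ∀ a : Fin 128, Nat.land (qconj w.val a.val) 63 = Nat.land a.val 63 := by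
  decide +kernel

theorem gen_codes : ∀ a ∈ genL, a < 128 := by decide

theorem code_rels : qm 1 1 = 0 ∧ qm 8 8 = 0 ∧ qm 2 2 = 0 ∧ qm 24 24 = 0 ∧ pk (rT 1) 1 = 1 ∧ pk (rT 1) 8 = 8 ∧
    qm 8 1 = qm (qm 1 8) 64 ∧ qm 2 1 = qm 1 2 ∧ qm 2 8 = qm 8 2 ∧ pk (rT 1) 2 = 4 ∧ pk (rT 1) 4 = qm 2 4 ∧
    qm 8 24 = 16 ∧ qm 24 (pk (rT 1) 24) = 32 ∧ pk (sT 1) 8 = 24 ∧ qm 64 64 = 0 ∧ pk (rT 1) 24 < 128 ∧
    qm 0 0 = 0 := by decide +kernel

theorem qm_xor : ∀ a : Fin 128, qm a.val 64 = Nat.xor a.val 64 := by decide +kernel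

theorem exists_gen {C : Type*} [Group C] [Finite C] (Q : Subgroup C) [Q.Normal] (t : C)
    (tc : ∀ g, t * g = g * t) (ht1 : t ≠ 1)
    (hX : Cfsg.IsExtraspecial 2 Q) (hcard : Nat.card Q = 128)
    (hself : Subgroup.centralizer (Q : Set C) ≤ Q) (e : C ⧸ Q ≃* L3) :
    ∃ P ∈ parL, ∃ D : Gen P C, D.B.g 6 = t ∧ (∀ z < 128, D.B.ι z ∈ Q) ∧ (∀ q ∈ Q, ∃ z < 128, D.B.ι z = q) ∧
      Set.InjOn D.η {a | a < 21504} ∧ ∀ g, ∃ a < 21504, D.η a = g := by
  classical
  obtain ⟨z, hx2, -⟩ := Cfsg.Lib.LargeExtra.exists_x2 hX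
  have htQ : t ∈ Q := hself (Subgroup.mem_centralizer_iff.mpr fun q _ => (tc q).symm)
  obtain rfl : z = t := ((hx2.cen t htQ fun a _ => (tc a).symm).resolve_left ht1).symm
  let π : C →* L3 := e.toMonoidHom.comp (QuotientGroup.mk' Q)
  have hker : π.ker = Q := by
    ext x
    show e (QuotientGroup.mk' Q x) = 1 ↔ x ∈ Q
    rw [map_eq_one_iff e e.injective]
    exact QuotientGroup.eq_one_iff x
  have hπQ : ∀ {x : C}, x ∈ Q ↔ π x = 1 := fun {x} => by rw [← hker]; rfl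
  have hk128 : Nat.card π.ker = 128 := by rw [hker, hcard]
  have hsur : Function.Surjective π := e.surjective.comp (QuotientGroup.mk'_surjective Q)
  obtain ⟨r7, r3', rrs, kk, krk, sk3, sne, rne, kne⟩ := mat_rels
  have pow128 : ∀ x ∈ Q, x ^ 128 = 1 := fun x hx => by
    rw [← orderOf_dvd_iff_pow_eq_one, ← hcard]
    exact Subgroup.orderOf_dvd_natCard Q hx
  -- the element of order 7
  obtain ⟨xs, hxs⟩ := hsur mS
  have hs7' : (xs ^ 512) ^ 7 = 1 := by
    rw [← pow_mul, show 512 * 7 = 7 * 128 * 4 by norm_num, pow_mul, pow_mul, pow128 _ (hπQ.mpr (by rw [map_pow, hxs, r7])),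
      one_pow]
  have hsS : π (xs ^ 512) = mS := by
    rw [map_pow, hxs, pow_eq_pow_mod 512 r7, show 512 % 7 = 1 from rfl, pow_one]
  set s := xs ^ 512 with hs
  have hsQ : s ∉ Q := fun h => sne (hsS ▸ hπQ.mp h)
  let K : Core C := ⟨Q, inferInstance, z, s, hx2, tc, hcard, hs7',
    fun c hc => hself (Subgroup.mem_centralizer_iff.mpr fun q hq => (hc q hq).symm), hsQ⟩
  -- the element of order 3
  obtain ⟨xr, hxr⟩ := hsur mR
  haveI : Fact (Nat.Prime 7) := ⟨by norm_num⟩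
  haveI : Fact (Nat.Prime 3) := ⟨Nat.prime_three⟩
  obtain ⟨q, hq, hqc⟩ := conj_of_same_image π (p := 7) hk128 (by norm_num) (a := xr * s * xr⁻¹) (b := s ^ 2)
    (by rw [conj_pow, hs7', mul_one, mul_inv_cancel]) (by rw [← pow_mul, pow_mul', hs7', one_pow])
    (by rw [map_mul, map_mul, map_inv, hxr, map_pow π s 2, hsS, rrs])
    (by rw [map_mul, map_mul, map_inv, hxr, hsS, rrs]; exact fun h => sne (by
      rw [← pow_one mS, ← show mS ^ 8 = mS ^ 1 by rw [pow_eq_pow_mod 8 r7], show 8 = 2 * 4 from rfl, pow_mul, h, one_pow]))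
  set y := q * xr with hy
  have hyS : y * s * y⁻¹ = s ^ 2 := by rw [← hqc, hy]; group
  have hyπ : π y = mR := by rw [hy, map_mul, MonoidHom.mem_ker.mp hq, hxr, one_mul]
  have hyn : ∀ n : ℕ, y ^ n * s * (y ^ n)⁻¹ = s ^ 2 ^ n := by
    intro n
    induction n with
    | zero => simp
    | succ n ih =>
      calc y ^ (n + 1) * s * (y ^ (n + 1))⁻¹ = y * (y ^ n * s * (y ^ n)⁻¹) * y⁻¹ := by rw [pow_succ']; group
        _ = s ^ 2 ^ (n + 1) := by rw [ih, ← conj_pow, hyS, ← pow_mul, pow_succ']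
  have hr3 : (y ^ 256) ^ 3 = 1 := by
    rw [← pow_mul, show 256 * 3 = 3 * 128 * 2 by norm_num, pow_mul, pow_mul,
      pow128 _ (hπQ.mpr (by rw [map_pow, hyπ, r3'])), one_pow]
  have hrR : π (y ^ 256) = mR := by
    rw [map_pow, hyπ, pow_eq_pow_mod 256 r3', show 256 % 3 = 1 from rfl, pow_one]
  have hrs : y ^ 256 * K.s * (y ^ 256)⁻¹ = K.s ^ 2 := by
    show y ^ 256 * s * (y ^ 256)⁻¹ = s ^ 2
    rw [hyn, pow_eq_pow_mod (2 ^ 256) hs7']
    congr 1
  obtain ⟨F, hFs, hFr, hFt, hFQ, hFsur⟩ := K.exists_frame hr3 hrs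
  have hFsS : π F.s = mS := by rw [hFs]; exact hsS
  have hFrR : π F.r = mR := by rw [hFr]; exact hrR
  -- the extending element up to the fixed points
  obtain ⟨xc, hxc⟩ := hsur mK
  obtain ⟨q, hq, hqc⟩ := conj_of_same_image π (p := 3) hk128 (by norm_num) (a := xc * F.r * xc⁻¹) (b := F.r⁻¹)
    (by rw [conj_pow, F.r3, mul_one, mul_inv_cancel]) (by rw [inv_pow, F.r3, inv_one])
    (by rw [map_mul, map_mul, map_inv, map_inv, hxc, hFrR, krk])
    (by rw [map_mul, map_mul, map_inv, hxc, hFrR, krk]; exact fun h => rne (inv_eq_one.mp h))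
  set c0 := q * xc with hc0
  have hc0r : c0 * F.r * c0⁻¹ = F.r⁻¹ := by rw [← hqc, hc0]; group
  have hc0π : π c0 = mK := by rw [hc0, map_mul, MonoidHom.mem_ker.mp hq, hxc, one_mul]
  have ιinj := @Basis.ι_inj C _ F.B F.t_ne
  have lt_gen : ∀ {i : ℕ}, i < 7 → 2 ^ i < 128 := fun hi =>
    lt_of_le_of_lt (Nat.pow_le_pow_right (by norm_num) (by omega)) (by norm_num : 2 ^ 6 < 128)
  have ex_img : ∀ (g : C) {a : ℕ}, a < 128 → ∃ b < 128, g * F.B.ι a * g⁻¹ = F.B.ι b := fun g a ha => by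
    obtain ⟨b, hb, h⟩ := hFsur _ ((inferInstance : Q.Normal).conj_mem _ (hFQ a ha) g)
    exact ⟨b, hb, h.symm⟩
  have cmul : ∀ (g : C) {a a' b b' : ℕ}, a < 128 → a' < 128 → b < 128 → b' < 128 →
      g * F.B.ι a * g⁻¹ = F.B.ι b → g * F.B.ι a' * g⁻¹ = F.B.ι b' →
      g * F.B.ι (qm a a') * g⁻¹ = F.B.ι (qm b b') := by
    intro g a a' b b' ha ha' hb hb' h h'
    rw [F.B.ι_mul ha ha', F.B.ι_mul hb hb', ← h, ← h']
    group
  obtain ⟨cr1, cr8, cr2, cr24, fr1, fr8, cr81, cr21, cr28, fr2, fr4, g16, g32, s8, cr64, l56, cr0⟩ := code_rels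
  have hι0 : F.B.ι 0 = 1 := F.B.ι_zero
  have h64 : F.B.ι 64 = z := (F.B.ι_gen (i := 6) (by norm_num)).trans hFt
  have conj64 : ∀ g : C, g * F.B.ι 64 * g⁻¹ = F.B.ι 64 := fun g => by
    rw [h64, ← tc g, mul_inv_cancel_right]
  have inv_fix : ∀ (g : C), g * F.r * g⁻¹ = F.r⁻¹ → ∀ {a b : ℕ}, a < 128 → b < 128 →
      g * F.B.ι a * g⁻¹ = F.B.ι b → g * F.B.ι (pk (rT 1) a) * g⁻¹ = F.B.ι (pk (rT 2) b) := by
    intro g hg a b ha hb h
    have h2 : pk (rT 2) b = pk (rT 1) (pk (rT 1) b) := (act_tab ⟨b, hb⟩).2.1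
    rw [← F.r_ι a ha, h2, ← F.r_ι _ (rT_lt (by norm_num) hb), ← F.r_ι b hb, ← h]
    have hr2 : F.r⁻¹ = F.r * F.r := inv_eq_of_mul_eq_one_right (by rw [← mul_assoc, ← F.r3, pow_succ, pow_two])
    calc g * (F.r * F.B.ι a * F.r⁻¹) * g⁻¹ = (g * F.r * g⁻¹) * (g * F.B.ι a * g⁻¹) * (g * F.r * g⁻¹)⁻¹ := by group
      _ = F.r⁻¹ * (g * F.B.ι a * g⁻¹) * (F.r⁻¹)⁻¹ := by rw [hg]
      _ = F.r * F.r * (g * F.B.ι a * g⁻¹) * (F.r * F.r)⁻¹ := by rw [hr2]
      _ = _ := by group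
  -- normalise
  obtain ⟨z1, hz1, e1⟩ := ex_img c0 (show 1 < 128 by norm_num)
  obtain ⟨z8, hz8, e8⟩ := ex_img c0 (show 8 < 128 by norm_num)
  have hfix : fixCond z1 z8 = true := by
    have hh := fun {a b : ℕ} (ha : a < 128) (hb : b < 128) (h : c0 * F.B.ι a * c0⁻¹ = F.B.ι b) (hsq : qm a a = 0)
        (hra : pk (rT 1) a = a) => show qm b b = 0 ∧ pk (rT 2) b = b from by
      refine ⟨ιinj (qm_range hb hb) (by norm_num) ?_, ιinj (rT_lt (by norm_num) hb) hb ?_⟩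
      · rw [← cmul c0 ha ha hb hb h h, hsq, hι0, mul_one, mul_inv_cancel]
      · have := inv_fix c0 hc0r ha hb h
        rw [hra, h] at this
        exact this.symm
    obtain ⟨a1, b1⟩ := hh (by norm_num) hz1 e1 cr1 fr1
    obtain ⟨a8, b8⟩ := hh (by norm_num) hz8 e8 cr8 fr8
    have hcr : qm z8 z1 = Nat.xor (qm z1 z8) 64 := by
      rw [← qm_xor ⟨_, qm_range hz1 hz8⟩]
      refine ιinj (qm_range hz8 hz1) (qm_range (qm_range hz1 hz8) (by norm_num)) ?_
      rw [← cmul c0 (by norm_num) (by norm_num) hz8 hz1 e8 e1, cr81,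
        cmul c0 (qm_range (by norm_num) (by norm_num)) (by norm_num) (qm_range hz1 hz8) (by norm_num)
          (cmul c0 (by norm_num) (by norm_num) hz1 hz8 e1 e8) (conj64 c0)]
    simp only [fixCond, a1, b1, a8, b8, hcr, Nat.beq_refl, Bool.and_self]
  obtain ⟨w, hw, hwr, hwz⟩ := norm_ok hz1 hz8 hfix
  set c1 := F.B.ι w * c0 with hc1
  have hιw : F.r * F.B.ι w * F.r⁻¹ = F.B.ι w := by rw [F.r_ι w hw, hwr]
  have hc1r : c1 * F.r * c1⁻¹ = F.r⁻¹ := by
    calc c1 * F.r * c1⁻¹ = F.B.ι w * (c0 * F.r * c0⁻¹) * (F.B.ι w)⁻¹ := by rw [hc1]; group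
      _ = F.r⁻¹ * ((F.r * F.B.ι w * F.r⁻¹) * (F.B.ι w)⁻¹) := by rw [hc0r]; group
      _ = F.r⁻¹ := by rw [hιw, mul_inv_cancel, mul_one]
  have hc1π : π c1 = mK := by rw [hc1, map_mul, hπQ.mp (hFQ w hw), hc0π, one_mul]
  have hconj : ∀ {a b : ℕ}, b < 128 → c0 * F.B.ι a * c0⁻¹ = F.B.ι b → c1 * F.B.ι a * c1⁻¹ = F.B.ι (qconj w b) := by
    intro a b hb h
    rw [qconj, F.B.ι_mul (qm_range hw hb) (qi_lt hw), F.B.ι_mul hw hb, F.B.ι_qi hw, ← h, hc1]
    group
  obtain ⟨x, hxl, ex⟩ := ex_img c1 (show 2 < 128 by norm_num)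
  obtain ⟨y, hyl, ey⟩ := ex_img c1 (show 24 < 128 by norm_num)
  -- the images of all generators
  have main : ∀ (sw : Bool) (ce cf : ℕ), ce < 128 → cf < 128 → c1 * F.B.ι 1 * c1⁻¹ = F.B.ι ce →
      c1 * F.B.ι 8 * c1⁻¹ = F.B.ι cf → searchOK sw ce cf = true →
      isCand sw x y = true ∧ ∀ a < 128, c1 * F.B.ι a * c1⁻¹ = F.B.ι (word7 (imG ce cf x y) a) := by
    intro sw ce cf hce hcf h1 h8 hsearch
    have him : ∀ i < 7, imG ce cf x y i < 128 := fun i hi => by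
      interval_cases i <;> simp only [imG] <;>
        first | assumption | exact rT_lt (by norm_num) hxl | exact qm_range hcf hyl |
          exact qm_range hyl (rT_lt (by norm_num) hyl) | norm_num
    have hgen : ∀ i < 7, (MulAut.conj c1).toMonoidHom (F.B.g i) = F.B.ι (imG ce cf x y i) := fun i hi => by
      show c1 * F.B.g i * c1⁻¹ = _
      rw [← F.B.ι_gen hi]
      interval_cases i
      · exact h1
      · exact ex
      · show c1 * F.B.ι 4 * c1⁻¹ = _
        rw [← fr2]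
        exact inv_fix c1 hc1r (by norm_num) hxl ex
      · exact h8
      · show c1 * F.B.ι 16 * c1⁻¹ = _
        rw [← g16]
        exact cmul c1 (by norm_num) (by norm_num) hcf hyl h8 ey
      · show c1 * F.B.ι 32 * c1⁻¹ = _
        rw [← g32]
        exact cmul c1 (by norm_num) l56 hyl (rT_lt (by norm_num) hyl) ey (inv_fix c1 hc1r (by norm_num) hyl ey)
      · exact conj64 c1
    have hall : ∀ a, c1 * F.B.ι a * c1⁻¹ = F.B.ι (word7 (imG ce cf x y) a) :=
      fun a => F.B.map_ι F.B (MulAut.conj c1).toMonoidHom him hgen a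
    refine ⟨?_, fun a _ => hall a⟩
    set T := word7 (imG ce cf x y) with hT
    have hTl : ∀ a, T a < 128 := fun a => word7_lt him a
    have Tm : ∀ {a b}, a < 128 → b < 128 → T (qm a b) = qm (T a) (T b) := fun ha hb =>
      ιinj (hTl _) (qm_range (hTl _) (hTl _)) (by
        rw [← hall, ← cmul c1 ha hb (hTl _) (hTl _) (hall _) (hall _)])
    have Tr : ∀ {a}, a < 128 → T (pk (rT 1) a) = pk (rT 2) (T a) := fun ha =>
      ιinj (hTl _) (rT_lt (by norm_num) (hTl _)) (by rw [← hall, inv_fix c1 hc1r ha (hTl _) (hall _)])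
    have inner : ∀ (g : C) (P : ℕ → ℕ), π g = 1 → (∀ a < 128, g * F.B.ι a * g⁻¹ = F.B.ι (P a)) →
        (∀ a < 128, P a < 128) → ∀ a < 128, Nat.land (P a) 63 = Nat.land a 63 := by
      intro g P hg hP hPl a ha
      obtain ⟨u, hu, hue⟩ := hFsur g (hπQ.mpr hg)
      have : P a = qconj u a := ιinj (hPl a ha) (qm_range (qm_range hu ha) (qi_lt hu)) (by
        rw [← hP a ha, qconj, F.B.ι_mul (qm_range hu ha) (qi_lt hu), F.B.ι_mul hu ha, F.B.ι_qi hu, hue])
      rw [this]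
      exact land_qconj ⟨u, hu⟩ ⟨a, ha⟩
    have Tsq := inner (c1 * c1) (fun a => T (T a)) (by rw [map_mul, hc1π, kk])
      (fun a _ => by rw [← hall, ← hall]; group) (fun a _ => hTl _)
    have hm : ∀ a < 128, F.s * c1 * F.B.ι a * (F.s * c1)⁻¹ = F.B.ι (pk (sT 1) (T a)) := fun a _ => by
      rw [← F.s_ι _ (hTl _), ← hall]; group
    have hml : ∀ a, pk (sT 1) (T a) < 128 := fun a => sT_lt (by norm_num) (hTl a)
    have Tcu := inner ((F.s * c1) ^ 3) (fun a => pk (sT 1) (T (pk (sT 1) (T (pk (sT 1) (T a))))))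
      (by rw [map_pow, map_mul, hFsS, hc1π, sk3])
      (fun a ha => by
        rw [← hm _ (hml _), ← hm _ (hml _), ← hm a ha]
        simp only [pow_succ, pow_zero, one_mul]; group)
      (fun a _ => hml _)
    have hact : actOK T = true := by
      simp only [actOK, Bool.and_eq_true, List.all_eq_true]
      refine ⟨⟨⟨fun a ha b hb => ?_, fun a ha => ?_⟩, fun a ha => ?_⟩, fun a ha => ?_⟩
      · rw [Tm (gen_codes a ha) (gen_codes b hb)]; exact Nat.beq_refl _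
      · rw [Tr (gen_codes a ha)]; exact Nat.beq_refl _
      · rw [Tsq a (gen_codes a ha)]; exact Nat.beq_refl _
      · rw [Tcu a (gen_codes a ha)]; exact Nat.beq_refl _
    have hT2 : T 2 = x := ιinj (hTl 2) hxl ((hall 2).symm.trans ex)
    have hT1 : T 1 = ce := ιinj (hTl 1) hce ((hall 1).symm.trans h1)
    have hT8 : T 8 = cf := ιinj (hTl 8) hcf ((hall 8).symm.trans h8)
    have hT4 : T 4 = pk (rT 2) x := by rw [← fr2, Tr (by norm_num), hT2]
    have hxok : xOK ce cf x = true := by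
      have a1 : qm x x = 0 := by
        rw [← hT2, ← Tm (by norm_num) (by norm_num), cr2]
        exact ιinj (hTl 0) (by norm_num) (by rw [← hall, hι0, mul_one, mul_inv_cancel])
      have a2 : pk (rT 2) (pk (rT 2) x) = qm x (pk (rT 2) x) := by
        rw [← hT4, ← Tr (by norm_num), fr4, Tm (by norm_num) (by norm_num), hT2]
      have a3 : qm x ce = qm ce x := by
        rw [← hT2, ← hT1, ← Tm (by norm_num) (by norm_num), ← Tm (by norm_num) (by norm_num), cr21]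
      have a4 : qm x cf = qm cf x := by
        rw [← hT2, ← hT8, ← Tm (by norm_num) (by norm_num), ← Tm (by norm_num) (by norm_num), cr28]
      simp only [xOK, a1, a2, a3, a4, Nat.beq_refl, Bool.and_self]
    have h := allB_sound _ hsearch x hxl
    rw [hxok] at h
    simp only [Bool.not_true, Bool.false_or] at h
    have h' := allB_sound _ h y hyl
    rw [← hT, hact] at h'
    simpa using h'
  obtain ⟨hcand, hall⟩ : isCand false x y = true ∧
      ∀ a < 128, c1 * F.B.ι a * c1⁻¹ = F.B.ι (word7 (imG 1 8 x y) a) := by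
    rcases hwz with ⟨h1, h8⟩ | ⟨h1, h8⟩
    · exact main false 1 8 (by norm_num) (by norm_num) ((hconj hz1 e1).trans (congrArg _ h1)) ((hconj hz8 e8).trans (congrArg _ h8)) search_plain
    · have := (main true 8 1 (by norm_num) (by norm_num) ((hconj hz1 e1).trans (congrArg _ h1)) ((hconj hz8 e8).trans (congrArg _ h8)) search_swap).1
      simp [isCand] at this
  simp only [isCand, Bool.not_false, Bool.true_and, Bool.or_eq_true, Bool.and_eq_true] at hcand
  have hcases : (x = 4 ∧ y = 40) ∨ (x = 4 ∧ y = 106) ∨ (x = 84 ∧ y = 40) := by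
    rcases hcand with (⟨a, b⟩ | ⟨a, b⟩) | ⟨a, b⟩
    · exact Or.inl ⟨Nat.eq_of_beq_eq_true a, Nat.eq_of_beq_eq_true b⟩
    · exact Or.inr (Or.inl ⟨Nat.eq_of_beq_eq_true a, Nat.eq_of_beq_eq_true b⟩)
    · exact Or.inr (Or.inr ⟨Nat.eq_of_beq_eq_true a, Nat.eq_of_beq_eq_true b⟩)
  set T := word7 (imG 1 8 x y) with hT
  have hTl : ∀ a, T a < 128 := fun a => word7_lt (fun i hi => by
    interval_cases i <;> simp only [imG] <;>
      first | exact hxl | exact rT_lt (by norm_num) hxl | exact qm_range (by norm_num) hyl |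
        exact qm_range hyl (rT_lt (by norm_num) hyl) | norm_num) a
  -- the square
  obtain ⟨w2, hw2, hw2e⟩ := hFsur (c1 * c1) (hπQ.mpr (by rw [map_mul, hc1π, kk]))
  have hsq : sqCond T w2 = true := by
    have a1 : pk (rT 1) w2 = w2 := ιinj (rT_lt (by norm_num) hw2) hw2 (by
      rw [← F.r_ι w2 hw2, hw2e]
      have hc : c1 * F.r = F.r⁻¹ * c1 := mul_inv_eq_iff_eq_mul.mp hc1r
      have hc' : c1 * F.r⁻¹ = F.r * c1 := by
        refine mul_inv_eq_iff_eq_mul.mp ?_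
        calc c1 * F.r⁻¹ * c1⁻¹ = (c1 * F.r * c1⁻¹)⁻¹ := by group
          _ = F.r⁻¹⁻¹ := by rw [hc1r]
          _ = F.r := inv_inv _
      calc F.r * (c1 * c1) * F.r⁻¹ = (F.r * c1) * (c1 * F.r⁻¹) := by group
        _ = (c1 * F.r⁻¹) * (c1 * F.r⁻¹) := by rw [hc']
        _ = c1 * (F.r⁻¹ * c1) * F.r⁻¹ := by group
        _ = c1 * (c1 * F.r) * F.r⁻¹ := by rw [hc]
        _ = c1 * c1 := by group)
    have a2 : T w2 = w2 := ιinj (hTl _) hw2 (by rw [← hall w2 hw2, hw2e]; group)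
    have a3 : ∀ a ∈ genL, qconj w2 a = T (T a) := fun a ha => by
      have ha := gen_codes a ha
      refine ιinj (qm_range (qm_range hw2 ha) (qi_lt hw2)) (hTl _) ?_
      rw [qconj, F.B.ι_mul (qm_range hw2 ha) (qi_lt hw2), F.B.ι_mul hw2 ha, F.B.ι_qi hw2, hw2e, ← hall _ (hTl a),
        ← hall a ha]
      group
    simp only [sqCond, a1, a2, Nat.beq_refl, Bool.and_self, Bool.true_and, List.all_eq_true]
    exact fun a ha => by rw [a3 a ha]; exact Nat.beq_refl _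
  -- the cube, choosing the lift
  obtain ⟨u0, hu0, hu0e⟩ := hFsur ((F.s * c1) ^ 3) (hπQ.mpr (by rw [map_pow, map_mul, hFsS, hc1π, sk3]))
  obtain ⟨c2, u, hu, hc2π, hc2r, hc2all, hc2sq, hc2u⟩ : ∃ c2 u, u < 64 ∧ π c2 = mK ∧ c2 * F.r * c2⁻¹ = F.r⁻¹ ∧
      (∀ a < 128, c2 * F.B.ι a * c2⁻¹ = F.B.ι (T a)) ∧ c2 * c2 = F.B.ι w2 ∧ (F.s * c2) ^ 3 = F.B.ι u := by
    by_cases h : u0 < 64
    · exact ⟨c1, u0, h, hc1π, hc1r, hall, hw2e.symm, hu0e.symm⟩
    · have hzz : z * z = 1 := hx2.zz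
      have hc : ∀ g, (z * c1) * g * (z * c1)⁻¹ = c1 * g * c1⁻¹ := fun g => by
        calc (z * c1) * g * (z * c1)⁻¹ = z * (c1 * g * c1⁻¹) * z⁻¹ := by group
          _ = c1 * g * c1⁻¹ := by rw [tc, mul_inv_cancel_right]
      refine ⟨z * c1, Nat.xor u0 64, ?_, ?_, by rw [hc, hc1r], fun a ha => by rw [hc, hall a ha], ?_, ?_⟩
      · have : ∀ u : Fin 128, ¬ u.val < 64 → Nat.xor u.val 64 < 64 := by decide
        exact this ⟨u0, hu0⟩ h
      · rw [map_mul, hπQ.mp htQ, hc1π, one_mul]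
      · calc z * c1 * (z * c1) = z * (c1 * z) * c1 := by group
          _ = z * z * (c1 * c1) := by rw [← tc c1]; group
          _ = F.B.ι w2 := by rw [hzz, one_mul, hw2e]
      · rw [← qm_xor ⟨u0, hu0⟩, F.B.ι_mul hu0 (by norm_num), hu0e, h64]
        have h1 : F.s * (z * c1) = (F.s * c1) * z := by rw [tc c1, ← mul_assoc]
        rw [h1, (show Commute (F.s * c1) z from (tc _).symm).mul_pow, pow_succ z 2, pow_two, hzz, one_mul]
  have hcu : cubeCond T u = true := by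
    simp only [cubeCond, List.all_eq_true]
    intro a ha
    have ha := gen_codes a ha
    have hu' : u < 128 := by omega
    have hm : ∀ b < 128, F.s * c2 * F.B.ι b * (F.s * c2)⁻¹ = F.B.ι (pk (sT 1) (T b)) := fun b hb => by
      rw [← F.s_ι _ (hTl _), ← hc2all b hb]; group
    have : qconj u a = pk (sT 1) (T (pk (sT 1) (T (pk (sT 1) (T a))))) := by
      refine ιinj (qm_range (qm_range hu' ha) (qi_lt hu')) (sT_lt (by norm_num) (hTl _)) ?_
      rw [qconj, F.B.ι_mul (qm_range hu' ha) (qi_lt hu'), F.B.ι_mul hu' ha, F.B.ι_qi hu', ← hc2u,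
        ← hm _ (sT_lt (by norm_num) (hTl _)), ← hm _ (sT_lt (by norm_num) (hTl _)), ← hm a ha]
      simp only [pow_succ, pow_zero, one_mul]; group
    rw [this]; exact Nat.beq_refl _
  -- the parameters
  have hsplit : ∀ {x' y'}, x = x' → y = y' → pairOK x' y' = true →
      (w2 = 0 ∨ w2 = 64) ∧ u = bif Nat.beq x' 84 then 32 else bif Nat.beq y' 40 then 0 else 4 := by
    rintro x' y' rfl rfl hp
    simp only [pairOK, Bool.and_eq_true] at hp
    have p1 := allB_sound _ hp.1 w2 hw2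
    have p2 := allB_sound _ hp.2 u hu
    rw [← hT, hsq] at p1
    rw [← hT, hcu] at p2
    simp only [Bool.not_true, Bool.false_or, Bool.or_eq_true] at p1 p2
    exact ⟨p1.imp Nat.eq_of_beq_eq_true Nat.eq_of_beq_eq_true, Nat.eq_of_beq_eq_true p2⟩
  obtain ⟨P, hP, hPz2, hPz3, hPtab⟩ : ∃ P ∈ parL, P.z2 = w2 ∧ P.z3 = u ∧ ∀ a < 128, pk P.tab a = T a := by
    obtain ⟨p1, p2, p3⟩ := pairs_ok
    have ht := fun a (ha : a < 128) => List.all_eq_true.mp tab_ok a (List.mem_range.mpr ha)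
    simp only [Bool.and_eq_true] at ht
    rcases hcases with ⟨rfl, rfl⟩ | ⟨rfl, rfl⟩ | ⟨rfl, rfl⟩
    · obtain ⟨h2, h3⟩ := hsplit rfl rfl p1
      rcases h2 with rfl | rfl
      · exact ⟨parL.getD 0 ⟨0, 0, 0⟩, by simp [parL], rfl, h3.symm, fun a ha => Nat.eq_of_beq_eq_true (ht a ha).1.1.1.1.1⟩
      · exact ⟨parL.getD 1 ⟨0, 0, 0⟩, by simp [parL], rfl, h3.symm, fun a ha => Nat.eq_of_beq_eq_true (ht a ha).1.1.1.1.2⟩
    · obtain ⟨h2, h3⟩ := hsplit rfl rfl p2
      rcases h2 with rfl | rfl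
      · exact ⟨parL.getD 2 ⟨0, 0, 0⟩, by simp [parL], rfl, h3.symm, fun a ha => Nat.eq_of_beq_eq_true (ht a ha).1.1.1.2⟩
      · exact ⟨parL.getD 3 ⟨0, 0, 0⟩, by simp [parL], rfl, h3.symm, fun a ha => Nat.eq_of_beq_eq_true (ht a ha).1.1.2⟩
    · obtain ⟨h2, h3⟩ := hsplit rfl rfl p3
      rcases h2 with rfl | rfl
      · exact ⟨parL.getD 4 ⟨0, 0, 0⟩, by simp [parL], rfl, h3.symm, fun a ha => Nat.eq_of_beq_eq_true (ht a ha).1.2⟩
      · exact ⟨parL.getD 5 ⟨0, 0, 0⟩, by simp [parL], rfl, h3.symm, fun a ha => Nat.eq_of_beq_eq_true (ht a ha).2⟩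
  let D : Gen P C := ⟨F, c2, fun a ha => by rw [hPtab a ha]; exact hc2all a ha, hc2r, hPz2 ▸ hc2sq, hPz3 ▸ hc2u⟩
  -- bijectivity
  have hπη : ∀ a < 21504, π (D.η a) = mE (a / 128) := by
    intro a ha
    show π (F.B.ι (qC a) * F.s ^ nC a * F.r ^ kC a * D.W (wC a)) = _
    have hW : π (D.W (wC a)) = mW (wC a) := by
      cases wC a with
      | zero => exact map_one π
      | succ l =>
        show π (c2 * F.s ^ l) = _
        rw [map_mul, map_pow, hFsS, hc2π]; rfl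
    rw [map_mul, map_mul, map_mul, map_pow, map_pow, hπQ.mp (hFQ _ (dec_lt a).1), hW, hFsS, hFrR, one_mul, mE]
    unfold nC kC wC
    rw [show a / 128 / 7 % 3 = a / 896 % 3 by omega, show a / 128 / 21 = a / 2688 by omega]
  have hinj : Set.InjOn D.η {a | a < 21504} := by
    intro a ha b hb h
    simp only [Set.mem_setOf_eq] at ha hb
    have h1 := congrArg π h
    rw [hπη a ha, hπη b hb] at h1
    have e1 := mE_inj (by omega) (by omega) h1
    have e2 : nC a = nC b ∧ kC a = kC b ∧ wC a = wC b := by unfold nC kC wC; omega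
    have h2 : F.B.ι (qC a) = F.B.ι (qC b) := by
      have h' : D.E (qC a) (nC a) (kC a) (wC a) = D.E (qC b) (nC b) (kC b) (wC b) := h
      rw [e2.1, e2.2.1, e2.2.2] at h'
      exact mul_right_cancel (mul_right_cancel (mul_right_cancel h'))
    have := ιinj (dec_lt a).1 (dec_lt b).1 h2
    unfold qC at this
    omega
  have hC : Nat.card C ≤ 21504 := by
    have h1 : Nat.card (C ⧸ Q) = 168 := by
      rw [Nat.card_congr e.toEquiv]
      have : Nat.card L3 = 168 := by rw [Nat.card_eq_fintype_card]; decide +kernel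
      exact this
    rw [Subgroup.card_eq_card_quotient_mul_card_subgroup Q, h1, hcard]
  refine ⟨P, hP, D, hFt, hFQ, hFsur, hinj, fun g => ?_⟩
  have hi : Function.Injective (fun a : Fin 21504 => D.η a.val) := fun a b h => Fin.ext (hinj a.isLt b.isLt h)
  obtain ⟨a, ha⟩ := (hi.bijective_of_nat_card_le (by rwa [Nat.card_fin])).2 g
  exact ⟨a.val, a.isLt, ha⟩

end Cfsg.Lib.HeldCent
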