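import Cfsg.Agent.HeldCent.Split
import Cfsg.Agent.HeldCent.Basis

/-!
Coordinates adapted to elements of orders 7 and 3.
-/

set_option autoImplicit false
set_option linter.unusedSimpArgs false
set_option linter.unusedSectionVars false
set_option maxRecDepth 100000
set_option maxHeartbeats 1600000

namespace Cfsg.Lib.HeldCent

open Subgroup
open scoped commutatorElement

/-- Coordinates on a normal subgroup with the actions of two elements. -/
structure Frame (C : Type*) [Group C] where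
  B : Basis C
  s : C
  r : C
  s7 : s ^ 7 = 1
  r3 : r ^ 3 = 1
  rs : r * s * r⁻¹ = s ^ 2
  t_ne : B.g 6 ≠ 1
  s_ι : ∀ z < 128, s * B.ι z * s⁻¹ = B.ι (pk (sT 1) z)
  r_ι : ∀ z < 128, r * B.ι z * r⁻¹ = B.ι (pk (rT 1) z)

theorem act_words : ∀ z : Fin 128, word7 (fun i => pk (sT 1) (2 ^ i)) z.val = pk (sT 1) z.val ∧
    word7 (fun i => pk (rT 1) (2 ^ i)) z.val = pk (rT 1) z.val := by decide +kernel

theorem act_lt : ∀ i : Fin 7, pk (sT 1) (2 ^ i.val) < 128 ∧ pk (rT 1) (2 ^ i.val) < 128 := by decide +kernel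

theorem cubA_sq {M : Type*} [CommGroup M] (σ : M →* M) (h2 : ∀ x : M, x * x = 1) (y : M) :
    cubA σ (cubA σ y) = σ (σ (σ (σ (σ (σ y))))) * σ (σ y) * y := by
  simp only [cubA_apply, map_mul]
  simp only [mul_assoc, mul_comm, mul_left_comm, dup_mul h2]

theorem cubB_sq {M : Type*} [CommGroup M] (σ : M →* M) (h2 : ∀ x : M, x * x = 1) (y : M) :
    cubB σ (cubB σ y) = σ (σ (σ (σ (σ (σ y))))) * σ (σ (σ (σ y))) * y := by
  simp only [cubB_apply, map_mul]
  simp only [mul_assoc, mul_comm, mul_left_comm, dup_mul h2]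

variable {C : Type*} [Group C] [Finite C] (K : Core C)

theorem Core.comm_conj (g : C) {a b : C} (ha : a ∈ K.Q) (hb : b ∈ K.Q) :
    ⁅g * a * g⁻¹, g * b * g⁻¹⁆ = ⁅a, b⁆ := by
  have e : ⁅g * a * g⁻¹, g * b * g⁻¹⁆ = g * ⁅a, b⁆ * g⁻¹ := by simp only [commutatorElement_def]; group
  rcases K.x2.comm a ha b hb with h | h <;> rw [e, h]
  · simp
  · rw [← K.tc g, mul_inv_cancel_right]

theorem Core.comm_mul_right {a b c : C} (ha : a ∈ K.Q) (hb : b ∈ K.Q) (hc : c ∈ K.Q) :
    ⁅a, b * c⁆ = ⁅a, b⁆ * ⁅a, c⁆ := by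
  have e : ⁅a, b * c⁆ = ⁅a, b⁆ * (b * ⁅a, c⁆ * b⁻¹) := by simp only [commutatorElement_def]; group
  rcases K.x2.comm a ha c hc with h | h <;> rw [e, h]
  · simp
  · rw [← K.tc b, mul_inv_cancel_right]

theorem Core.swap_one {a b : C} (h : ⁅a, b⁆ = 1) : b * a = a * b :=
  (commutatorElement_eq_one_iff_mul_comm.mp h).symm

theorem Core.swap_t {a b : C} (h : ⁅a, b⁆ = K.t) : b * a = a * b * K.t := by
  rw [commutatorElement_def, mul_inv_eq_iff_eq_mul, mul_inv_eq_iff_eq_mul] at h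
  rw [h, ← K.tc, ← mul_assoc, ← mul_assoc, K.x2.zz, one_mul]

/-- The exact cubic. -/
def Core.cubw (i : Bool) (u : C) : C := K.sc (K.sc (K.sc u)) * (bif i then K.sc (K.sc u) else K.sc u) * u

/-- The kernel of a cubic. -/
def Core.half (i : Bool) : Subgroup K.V := bif i then (cubB K.σ).ker else (cubA K.σ).ker

theorem Core.card_half (i : Bool) : Nat.card (K.half i) = 8 := by
  cases i
  · exact K.sizes.2.1
  · exact K.sizes.2.2

theorem Core.σ_half {i : Bool} {x : K.V} (hx : x ∈ K.half i) : K.σ x ∈ K.half i := by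
  cases i <;>
    simp only [Core.half, cond_false, cond_true, MonoidHom.mem_ker, cubA_apply, cubB_apply] at hx ⊢ <;>
    rw [← map_mul, ← map_mul, hx, map_one]

theorem Core.half_comm {i : Bool} {a b : C} (ha : a ∈ K.Q) (hb : b ∈ K.Q) (h : K.v a ha ∈ K.half i)
    (h' : K.v b hb ∈ K.half i) : a * b = b * a := by
  refine K.kernel_comm i ha hb ?_ ?_ <;> cases i <;> assumption

variable {r : C} (r3 : r ^ 3 = 1) (rs : r * K.s * r⁻¹ = K.s ^ 2)
include r3 rs

theorem Core.r_sc (x : C) : r * K.sc x * r⁻¹ = K.sc (K.sc (r * x * r⁻¹)) := by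
  calc r * K.sc x * r⁻¹ = (r * K.s * r⁻¹) * (r * x * r⁻¹) * (r * K.s * r⁻¹)⁻¹ := by simp only [Core.sc]; group
    _ = _ := by rw [rs, pow_two]; simp only [Core.sc]; group

theorem Core.exists_gen (i : Bool) : ∃ e, ∃ he : e ∈ K.Q, K.v e he ≠ 1 ∧ K.v e he ∈ K.half i ∧
    r * e * r⁻¹ = e ∧ e * e = 1 ∧ K.cubw i e = 1 := by
  classical
  obtain ⟨hfix, -, -⟩ := K.sizes
  have h2 := K.V_sq
  have rmem : ∀ {x : C}, x ∈ K.Q → r * x * r⁻¹ ∈ K.Q := fun hx => K.norm.conj_mem _ hx r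
  let ρ : K.V →* K.V :=
    { toFun := fun x => ⟨K.π r * x.1 * (K.π r)⁻¹, by
        obtain ⟨_, a, ha, rfl⟩ := x
        exact ⟨r * a * r⁻¹, rmem ha, by simp⟩⟩
      map_one' := Subtype.ext (by simp)
      map_mul' := fun a b => Subtype.ext (by simp only [Subgroup.coe_mul]; group) }
  have ρv : ∀ {x : C} (hx : x ∈ K.Q), ρ (K.v x hx) = K.v (r * x * r⁻¹) (rmem hx) :=
    fun hx => Subtype.ext (by simp [ρ, Core.v])
  have ρσ : ∀ x, ρ (K.σ x) = K.σ (K.σ (ρ x)) := by
    intro x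
    obtain ⟨a, ha, rfl⟩ := K.exists_v x
    simp only [K.σ_v, ρv]
    exact Subtype.ext (congrArg K.π (K.r_sc r3 rs a))
  have ρ3 : ∀ x, ρ (ρ (ρ x)) = x := by
    intro x
    obtain ⟨a, ha, rfl⟩ := K.exists_v x
    simp only [ρv]
    refine Subtype.ext (congrArg K.π ?_)
    calc r * (r * (r * a * r⁻¹) * r⁻¹) * r⁻¹ = r ^ 3 * a * (r ^ 3)⁻¹ := by
          simp only [pow_succ, pow_zero, one_mul, mul_inv_rev, mul_assoc]
      _ = a := by rw [r3]; group
  have ρhalf : ∀ x ∈ K.half i, ρ x ∈ K.half i := by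
    intro x hx
    have h := congrArg ρ (show (bif i then cubB K.σ x else cubA K.σ x) = 1 by cases i <;> exact hx)
    rw [map_one] at h
    cases i
    · simp only [cond_false, cubA_apply, map_mul, ρσ] at h
      refine cub_disjoint K.σ h2 K.σ7 hfix (x := cubA K.σ (ρ x)) ?_ (cubB_cubA K.σ h2 K.σ7 hfix _)
      exact (cubA_sq K.σ h2 _).trans h
    · simp only [cond_true, cubB_apply, map_mul, ρσ] at h
      refine cub_disjoint K.σ h2 K.σ7 hfix (x := cubB K.σ (ρ x)) (cubA_cubB K.σ h2 K.σ7 hfix _) ?_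
      exact (cubB_sq K.σ h2 _).trans h
  let X := {x : K.half i // x ≠ 1}
  letI : Fintype X := Fintype.ofFinite X
  have hX : Fintype.card X = 7 := by
    rw [← Nat.card_eq_fintype_card]
    have h := Nat.card_congr (Equiv.optionSubtypeNe (1 : K.half i))
    rw [Finite.card_option, K.card_half] at h
    show Nat.card {x : K.half i // x ≠ 1} = 7
    omega
  let σX : Equiv.Perm X :=
    { toFun := fun x => ⟨⟨ρ x.1, ρhalf _ x.1.2⟩, fun h => x.2 (Subtype.ext (by
          rw [← ρ3 x.1.1, show ρ x.1.1 = 1 from congrArg Subtype.val h, map_one, map_one]; rfl))⟩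
      invFun := fun x => ⟨⟨ρ (ρ x.1), ρhalf _ (ρhalf _ x.1.2)⟩, fun h => x.2 (Subtype.ext (by
          rw [← ρ3 x.1.1, show ρ (ρ x.1.1) = 1 from congrArg Subtype.val h, map_one]; rfl))⟩
      left_inv := fun x => Subtype.ext (Subtype.ext (ρ3 x.1.1))
      right_inv := fun x => Subtype.ext (Subtype.ext (ρ3 x.1.1)) }
  have hσ : σX ^ 3 ^ 1 = 1 := by
    refine Equiv.ext fun x => ?_
    simp only [pow_one, pow_succ, pow_zero, one_mul, Equiv.Perm.mul_apply, Equiv.Perm.one_apply]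
    exact Subtype.ext (Subtype.ext (ρ3 x.1.1))
  haveI : Fact (Nat.Prime 3) := ⟨Nat.prime_three⟩
  obtain ⟨⟨⟨x, hxA⟩, hx1⟩, hfx⟩ := Equiv.Perm.exists_fixed_point_of_prime (p := 3) (by rw [hX]; norm_num) hσ
  have hρx : ρ x = x := congrArg (fun y : X => y.1.1) hfx
  obtain ⟨u, hu, rfl⟩ := K.exists_v x
  have hne : K.v u hu ≠ 1 := fun h => hx1 (Subtype.ext h)
  have hw : K.π (K.cubw i u) = 1 := by
    have h0 : (bif i then cubB K.σ (K.v u hu) else cubA K.σ (K.v u hu)) = 1 := by cases i <;> exact hxA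
    cases i <;> simp only [cond_false, cond_true, cubA_apply, cubB_apply, K.σ_v] at h0 <;>
      have h := congrArg Subtype.val h0 <;>
      simp only [Subgroup.coe_mul, Core.v, Subgroup.coe_one] at h <;>
      simpa only [Core.cubw, cond_false, cond_true, map_mul] using h
  -- correct by the centre
  obtain ⟨e, he, hev, hec⟩ : ∃ e, ∃ he : e ∈ K.Q, K.v e he = K.v u hu ∧ K.cubw i e = 1 := by
    rcases K.π_eq_one.mp hw with h | h
    · exact ⟨u, hu, rfl, h⟩
    · refine ⟨u * K.t, mul_mem hu K.x2.mem, Subtype.ext (by simp [Core.v, K.π_t]), ?_⟩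
      have hst : K.sc K.t = K.t := by simp [Core.sc, ← K.tc K.s]
      have hc : K.cubw i (u * K.t) = K.cubw i u * K.t := by
        have c : ∀ a b d : C, a * K.t * (b * K.t) * (d * K.t) = a * b * d * K.t := by
          intro a b d
          calc a * K.t * (b * K.t) * (d * K.t) = a * (K.t * b) * (K.t * d) * K.t := by group
            _ = a * b * (K.t * K.t) * d * K.t := by rw [K.tc b]; group
            _ = _ := by rw [K.x2.zz, mul_one]
        cases i <;> simp only [Core.cubw, cond_false, cond_true, K.sc_mul, hst, c]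
      rw [hc, h, K.x2.zz]
  have hin : K.v e he ∈ K.half i := hev ▸ hxA
  have m1 := K.sc_mem he
  have m2 := K.sc_mem m1
  have m3 := K.sc_mem m2
  have v1 : K.v _ m1 ∈ K.half i := K.σ_v he ▸ K.σ_half hin
  have v2 : K.v _ m2 ∈ K.half i := K.σ_v m1 ▸ K.σ_half v1
  have v3 : K.v _ m3 ∈ K.half i := K.σ_v m2 ▸ K.σ_half v2
  have scsq : ∀ y : C, K.sc y * K.sc y = K.sc (y * y) := fun y => (K.sc_mul y y).symm
  have hst : K.sc K.t = K.t := by simp [Core.sc, ← K.tc K.s]
  refine ⟨e, he, hev ▸ hne, hin, ?_, ?_, hec⟩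
  · have h1 : K.π (e⁻¹ * (r * e * r⁻¹)) = 1 := by
      have h := hρx
      rw [← hev, ρv he] at h
      rw [map_mul, map_inv, show K.π (r * e * r⁻¹) = K.π e from congrArg Subtype.val h, inv_mul_cancel]
    rcases K.π_eq_one.mp h1 with h | h
    · exact (inv_mul_eq_one.mp h).symm
    · exfalso
      have hr : r * e = e * K.t * r := mul_inv_eq_iff_eq_mul.mp (inv_mul_eq_iff_eq_mul.mp h)
      have h3 : r * (r * (r * e * r⁻¹) * r⁻¹) * r⁻¹ = e := by
        calc _ = r ^ 3 * e * (r ^ 3)⁻¹ := by simp only [pow_succ, pow_zero, one_mul, mul_inv_rev, mul_assoc]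
          _ = e := by rw [r3]; group
      have hrt : r * K.t * r⁻¹ = K.t := by rw [← K.tc r, mul_inv_cancel_right]
      have hstep : r * e * r⁻¹ = e * K.t := mul_inv_eq_iff_eq_mul.mpr hr
      have hstep2 : r * (e * K.t) * r⁻¹ = e := by
        calc r * (e * K.t) * r⁻¹ = (r * e * r⁻¹) * (r * K.t * r⁻¹) := by group
          _ = e := by rw [hstep, hrt, mul_assoc, K.x2.zz, mul_one]
      rw [hstep, hstep2, hstep] at h3
      exact K.x2.ne (mul_eq_left.mp h3)
  · rcases K.x2.sq e he with h | h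
    · exact h
    · exfalso
      have key : ∀ a b c : C, a * b = b * a → a * c = c * a → b * c = c * b →
          a * b * c * (a * b * c) = a * a * (b * b) * (c * c) := by
        intro a b c hab hac hbc
        simp only [mul_assoc]
        rw [← mul_assoc c a, ← hac, mul_assoc, ← mul_assoc b a, ← hab, mul_assoc, ← mul_assoc c b, ← hbc, mul_assoc]
      have hsq := congrArg (fun y => y * y) hec
      simp only [Core.cubw, mul_one] at hsq
      cases i
      · rw [cond_false, key _ _ _ (K.half_comm m3 m1 v3 v1) (K.half_comm m3 he v3 hin) (K.half_comm m1 he v1 hin)] at hsq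
        simp only [scsq, h, hst, K.x2.zz, one_mul] at hsq
        exact K.x2.ne hsq
      · rw [cond_true, key _ _ _ (K.half_comm m3 m2 v3 v2) (K.half_comm m3 he v3 hin) (K.half_comm m2 he v2 hin)] at hsq
        simp only [scsq, h, hst, K.x2.zz, one_mul] at hsq
        exact K.x2.ne hsq

theorem Core.exists_frame : ∃ F : Frame C, F.s = K.s ∧ F.r = r ∧ F.B.g 6 = K.t ∧
    (∀ z < 128, F.B.ι z ∈ K.Q) ∧ ∀ q ∈ K.Q, ∃ z < 128, F.B.ι z = q := by
  classical
  obtain ⟨e, he, he1, heA, re, esq, ecub⟩ := K.exists_gen r3 rs false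
  obtain ⟨f, hf, hf1, hfB, rf, fsq, fcub⟩ := K.exists_gen r3 rs true
  obtain ⟨hfix, -, -⟩ := K.sizes
  have h2 := K.V_sq
  set e1 := K.sc e with he1'
  set e2 := K.sc e1 with he2'
  set f1 := K.sc f with hf1'
  set f2 := K.sc f1 with hf2'
  have me1 : e1 ∈ K.Q := K.sc_mem he
  have me2 : e2 ∈ K.Q := K.sc_mem me1
  have mf1 : f1 ∈ K.Q := K.sc_mem hf
  have mf2 : f2 ∈ K.Q := K.sc_mem mf1
  have ve1 : K.v e1 me1 ∈ K.half false := K.σ_v he ▸ K.σ_half heA
  have ve2 : K.v e2 me2 ∈ K.half false := K.σ_v me1 ▸ K.σ_half ve1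
  have vf1 : K.v f1 mf1 ∈ K.half true := K.σ_v hf ▸ K.σ_half hfB
  have vf2 : K.v f2 mf2 ∈ K.half true := K.σ_v mf1 ▸ K.σ_half vf1
  have scsq : ∀ y : C, y * y = 1 → K.sc y * K.sc y = 1 := fun y h => by rw [← K.sc_mul, h]; simp [Core.sc]
  have e1sq : e1 * e1 = 1 := scsq e esq
  have e2sq : e2 * e2 = 1 := scsq e1 e1sq
  have f1sq : f1 * f1 = 1 := scsq f fsq
  have f2sq : f2 * f2 = 1 := scsq f1 f1sq
  have cee1 : e * e1 = e1 * e := K.half_comm he me1 heA ve1
  have cee2 : e * e2 = e2 * e := K.half_comm he me2 heA ve2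
  have ce12 : e1 * e2 = e2 * e1 := K.half_comm me1 me2 ve1 ve2
  have cff1 : f * f1 = f1 * f := K.half_comm hf mf1 hfB vf1
  have cff2 : f * f2 = f2 * f := K.half_comm hf mf2 hfB vf2
  have cf12 : f1 * f2 = f2 * f1 := K.half_comm mf1 mf2 vf1 vf2
  have e3 : K.sc e2 = e1 * e := by
    have h := ecub
    simp only [Core.cubw, cond_false, ← he1', ← he2'] at h
    rw [mul_assoc, mul_eq_one_iff_eq_inv] at h
    rw [h, mul_inv_rev, inv_eq_of_mul_eq_one_right esq, inv_eq_of_mul_eq_one_right e1sq, cee1]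
  have f3 : K.sc f2 = f2 * f := by
    have h := fcub
    simp only [Core.cubw, cond_true, ← hf1', ← hf2'] at h
    rw [mul_assoc, mul_eq_one_iff_eq_inv] at h
    rw [h, mul_inv_rev, inv_eq_of_mul_eq_one_right fsq, inv_eq_of_mul_eq_one_right f2sq, cff2]
  have re1 : r * e1 * r⁻¹ = e2 := by rw [he1', K.r_sc r3 rs, re]
  have re2 : r * e2 * r⁻¹ = e2 * e1 := by
    rw [he2', K.r_sc r3 rs, re1, e3, K.sc_mul, ← he1', ← he2']
  have rf1 : r * f1 * r⁻¹ = f2 := by rw [hf1', K.r_sc r3 rs, rf]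
  have rf2 : r * f2 * r⁻¹ = f2 * f * f1 := by
    rw [hf2', K.r_sc r3 rs, rf1, f3, K.sc_mul, f3]
  -- pairings
  obtain ⟨k1, k2⟩ : ⁅e1, f⁆ = 1 ∧ ⁅e2, f⁆ = 1 := by
    have a := K.comm_conj r me1 hf
    rw [re1, rf] at a
    have b := K.comm_conj r me2 hf
    rw [re2, rf, K.comm_mul me2 me1 hf] at b
    exact ⟨mul_eq_left.mp b, a.trans (mul_eq_left.mp b)⟩
  have p11 : ⁅e1, f1⁆ = ⁅e, f⁆ := K.comm_sc e f he hf
  have p22 : ⁅e2, f2⁆ = ⁅e, f⁆ := (K.comm_sc e1 f1 me1 mf1).trans p11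
  have p21 : ⁅e2, f1⁆ = 1 := (K.comm_sc e1 f me1 hf).trans k1
  have p12 : ⁅e1, f2⁆ = ⁅e, f1⁆ := K.comm_sc e f1 he mf1
  have p01 : ⁅e, f1⁆ = ⁅e, f⁆ := by
    have h := (K.comm_sc e1 f2 me1 mf2).trans p12
    rw [f3, ← he2', K.comm_mul_right me2 mf2 hf, p22, k2, mul_one] at h
    exact h.symm
  have p02 : ⁅e, f2⁆ = ⁅e, f⁆ := by
    have h := K.comm_sc e f2 he mf2
    rw [f3, ← he1', K.comm_mul_right me1 mf2 hf, p12, k1, mul_one, p01] at h
    exact h.symm
  have hd : ⁅e, f⁆ = K.t := by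
    refine (K.x2.comm e he f hf).resolve_left fun h => he1 ?_
    exfalso
    have cf : ∀ y ∈ K.Q, Commute y f := by
      intro y hy
      have hinj : Function.Injective (fun pq : K.half false × K.half true => (pq.1 : K.V) * pq.2) := by
        rintro ⟨⟨p, hp⟩, ⟨q, hq⟩⟩ ⟨⟨p', hp'⟩, ⟨q', hq'⟩⟩ h'
        simp only at h'
        have e' : p * p' = q * q' := eq_of_mul_eq_one h2 (by
          calc p * p' * (q * q') = (p * q) * (p' * q') := by simp only [mul_assoc, mul_comm, mul_left_comm]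
            _ = 1 := by rw [h', h2])
        have e'' := cub_disjoint K.σ h2 K.σ7 hfix (x := p * p') (mul_mem hp hp')
          (by rw [e']; exact mul_mem hq hq')
        have := eq_of_mul_eq_one h2 e''
        subst this
        exact Prod.ext (Subtype.ext rfl) (Subtype.ext (mul_left_cancel h'))
      obtain ⟨⟨⟨p, hp⟩, ⟨q, hq⟩⟩, hpq⟩ := (hinj.bijective_of_nat_card_le (by
        rw [Nat.card_prod, K.card_half, K.card_half, K.card_V])).2 (K.v y hy)
      obtain ⟨i, hi⟩ := (eight_le K.σ h2 K.σ7 hfix (A := K.half false) (fun _ => K.σ_half) heA he1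
        (Or.inl heA)).2 (K.card_half false) p hp
      obtain ⟨j, hj⟩ := (eight_le K.σ h2 K.σ7 hfix (A := K.half true) (fun _ => K.σ_half) hfB hf1
        (Or.inr hfB)).2 (K.card_half true) q hq
      let w : C → C → C → Fin 8 → C := fun a b c i =>
        (bif i.val.testBit 0 then a else 1) * (bif i.val.testBit 1 then b else 1) * (bif i.val.testBit 2 then c else 1)
      have hwc : ∀ (a b c : C) (i : Fin 8), Commute a f → Commute b f → Commute c f → Commute (w a b c i) f := by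
        intro a b c i ha hb hc
        refine ((?_ : Commute _ f).mul_left ?_).mul_left ?_ <;> cases Nat.testBit _ _ <;>
          first | exact Commute.one_left f | assumption
      have hwv : K.π (w e e1 e2 i * w f f1 f2 j) = K.π y := by
        rw [show K.π y = (K.v y hy).1 from rfl, ← hpq]
        simp only [← hi, ← hj, spanEight, w, K.σ_v, map_mul, Subgroup.coe_mul]
        cases i.val.testBit 0 <;> cases i.val.testBit 1 <;> cases i.val.testBit 2 <;>
          cases j.val.testBit 0 <;> cases j.val.testBit 1 <;> cases j.val.testBit 2 <;>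
          simp [Core.v, ← he1', ← he2', ← hf1', ← hf2']
      have hcw : Commute (w e e1 e2 i * w f f1 f2 j) f :=
        (hwc _ _ _ i (commutatorElement_eq_one_iff_mul_comm.mp h) (commutatorElement_eq_one_iff_mul_comm.mp k1)
          (commutatorElement_eq_one_iff_mul_comm.mp k2)).mul_left (hwc _ _ _ j (Commute.refl f) cff1.symm cff2.symm)
      rcases K.π_eq_one.mp (show K.π ((w e e1 e2 i * w f f1 f2 j)⁻¹ * y) = 1 by
        rw [map_mul, map_inv, hwv, inv_mul_cancel]) with e' | e'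
      · rw [← inv_mul_eq_one.mp e']
        exact hcw
      · rw [inv_mul_eq_iff_eq_mul.mp e']
        exact hcw.mul_left (K.tc f)
    exact hf1 (Subtype.ext (K.π_eq_one.mpr (K.x2.cen f hf cf)))
  let g : ℕ → C := fun
    | 0 => e
    | 1 => e1
    | 2 => e2
    | 3 => f
    | 4 => f * f1
    | 5 => f1 * f2
    | _ => K.t
  have one := fun {a b : C} (h : ⁅a, b⁆ = 1) => Core.swap_one h
  let B : Basis C :=
    { g := g
      sq := fun i hi => by
        interval_cases i <;> simp only [g]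
        · exact esq
        · exact e1sq
        · exact e2sq
        · exact fsq
        · rw [mul_assoc, ← mul_assoc f1, ← cff1, mul_assoc f, f1sq, mul_one, fsq]
        · rw [mul_assoc, ← mul_assoc f2, ← cf12, mul_assoc f1, f2sq, mul_one, f1sq]
        · exact K.x2.zz
      cen := K.tc
      uu01 := cee1.symm
      uu02 := cee2.symm
      uu12 := ce12.symm
      pp34 := by show f * f1 * f = f * (f * f1); rw [mul_assoc, ← cff1]
      pp35 := by show f1 * f2 * f = f * (f1 * f2); rw [mul_assoc, ← cff2, ← mul_assoc, ← cff1, mul_assoc]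
      pp45 := by
        show f1 * f2 * (f * f1) = f * f1 * (f1 * f2)
        rw [show f1 * f2 * (f * f1) = f1 * (f2 * f) * f1 by group, ← cff2, ← mul_assoc, ← cff1, mul_assoc (f * f1),
          ← cf12]
      d30 := K.swap_t hd
      d31 := one k1
      d32 := one k2
      d40 := one (by show ⁅e, f * f1⁆ = 1; rw [K.comm_mul_right he hf mf1, p01, hd, K.x2.zz])
      d41 := K.swap_t (by show ⁅e1, f * f1⁆ = K.t; rw [K.comm_mul_right me1 hf mf1, k1, p11, hd, one_mul])
      d42 := one (by show ⁅e2, f * f1⁆ = 1; rw [K.comm_mul_right me2 hf mf1, k2, p21, one_mul])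
      d50 := one (by show ⁅e, f1 * f2⁆ = 1; rw [K.comm_mul_right he mf1 mf2, p01, p02, hd, K.x2.zz])
      d51 := one (by show ⁅e1, f1 * f2⁆ = 1; rw [K.comm_mul_right me1 mf1 mf2, p11, p12, p01, hd, K.x2.zz])
      d52 := K.swap_t (by show ⁅e2, f1 * f2⁆ = K.t; rw [K.comm_mul_right me2 mf1 mf2, p21, p22, hd, one_mul]) }
  have gval : B.g 0 = e ∧ B.g 1 = e1 ∧ B.g 2 = e2 ∧ B.g 3 = f ∧ B.g 4 = f * f1 ∧ B.g 5 = f1 * f2 ∧ B.g 6 = K.t :=
    ⟨rfl, rfl, rfl, rfl, rfl, rfl, rfl⟩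
  obtain ⟨g0, g1, g2, g3, g4, g5, g6⟩ := gval
  have ι2 : ∀ a b : ℕ, a < 7 → b < 7 → B.ι (qm (2 ^ a) (2 ^ b)) = B.g a * B.g b := fun a b ha hb => by
    rw [B.gen_mul ha (lt_of_le_of_lt (Nat.pow_le_pow_right (by norm_num) (by omega : b ≤ 6)) (by norm_num)) |>.symm,
      B.ι_gen hb]
  have imgs : ∀ i < 7, K.s * B.g i * K.s⁻¹ = B.ι (pk (sT 1) (2 ^ i)) := by
    intro i hi
    change K.sc (B.g i) = _
    interval_cases i
    · rw [show pk (sT 1) (2 ^ 0) = 2 ^ 1 by decide +kernel, B.ι_gen (by norm_num), g0, g1]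
    · rw [show pk (sT 1) (2 ^ 1) = 2 ^ 2 by decide +kernel, B.ι_gen (by norm_num), g1, g2]
    · rw [show pk (sT 1) (2 ^ 2) = qm (2 ^ 1) (2 ^ 0) by decide +kernel, ι2 1 0 (by norm_num) (by norm_num), g1, g2, g0, e3]
    · rw [show pk (sT 1) (2 ^ 3) = qm (2 ^ 3) (2 ^ 4) by decide +kernel, ι2 3 4 (by norm_num) (by norm_num), g3, g4,
        ← mul_assoc, fsq, one_mul]
    · rw [show pk (sT 1) (2 ^ 4) = 2 ^ 5 by decide +kernel, B.ι_gen (by norm_num), g4, g5, K.sc_mul]
    · rw [show pk (sT 1) (2 ^ 5) = 2 ^ 3 by decide +kernel, B.ι_gen (by norm_num), g5, g3, K.sc_mul, ← hf2', f3,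
        ← mul_assoc, f2sq, one_mul]
    · rw [show pk (sT 1) (2 ^ 6) = 2 ^ 6 by decide +kernel, B.ι_gen (by norm_num), g6]
      simp [Core.sc, ← K.tc K.s]
  have imgr : ∀ i < 7, r * B.g i * r⁻¹ = B.ι (pk (rT 1) (2 ^ i)) := by
    intro i hi
    interval_cases i
    · rw [show pk (rT 1) (2 ^ 0) = 2 ^ 0 by decide +kernel, B.ι_gen (by norm_num), g0, re]
    · rw [show pk (rT 1) (2 ^ 1) = 2 ^ 2 by decide +kernel, B.ι_gen (by norm_num), g1, g2, re1]
    · rw [show pk (rT 1) (2 ^ 2) = qm (2 ^ 2) (2 ^ 1) by decide +kernel, ι2 2 1 (by norm_num) (by norm_num), g2, g1, re2]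
    · rw [show pk (rT 1) (2 ^ 3) = 2 ^ 3 by decide +kernel, B.ι_gen (by norm_num), g3, rf]
    · rw [show pk (rT 1) (2 ^ 4) = qm (2 ^ 4) (2 ^ 5) by decide +kernel, ι2 4 5 (by norm_num) (by norm_num), g4, g5,
        show r * (f * f1) * r⁻¹ = (r * f * r⁻¹) * (r * f1 * r⁻¹) by group, rf, rf1,
        show f * f1 * (f1 * f2) = f * (f1 * f1) * f2 by group, f1sq, mul_one]
    · rw [show pk (rT 1) (2 ^ 5) = 2 ^ 4 by decide +kernel, B.ι_gen (by norm_num), g5, g4,
        show r * (f1 * f2) * r⁻¹ = (r * f1 * r⁻¹) * (r * f2 * r⁻¹) by group, rf1, rf2,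
        show f2 * (f2 * f * f1) = f2 * f2 * (f * f1) by group, f2sq, one_mul]
    · rw [show pk (rT 1) (2 ^ 6) = 2 ^ 6 by decide +kernel, B.ι_gen (by norm_num), g6, ← K.tc r, mul_inv_cancel_right]
  have hmap : ∀ (a : C) (P : ℕ), (∀ i < 7, pk P (2 ^ i) < 128) → (∀ i < 7, a * B.g i * a⁻¹ = B.ι (pk P (2 ^ i))) →
      (∀ z < 128, word7 (fun i => pk P (2 ^ i)) z = pk P z) → ∀ z < 128, a * B.ι z * a⁻¹ = B.ι (pk P z) := by
    intro a P hlt him hw z hz
    rw [← hw z hz, ← B.map_ι B (MulAut.conj a).toMonoidHom hlt him z]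
    rfl
  have hg6 : B.g 6 ≠ 1 := K.x2.ne
  have hmem : ∀ z, B.ι z ∈ K.Q := by
    intro z
    have hgm : ∀ i, B.g i ∈ K.Q := fun i => by
      show g i ∈ K.Q
      simp only [g]
      split <;> first | assumption | exact mul_mem hf mf1 | exact mul_mem mf1 mf2 | exact K.x2.mem
    have hs : ∀ (b : Bool) i, selC b (B.g i) ∈ K.Q := fun b i => by
      cases b
      · exact one_mem _
      · exact hgm i
    exact mul_mem (hs _ _) (mul_mem (hs _ _) (mul_mem (hs _ _) (mul_mem (hs _ _) (mul_mem (hs _ _)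
      (mul_mem (hs _ _) (hs _ _))))))
  refine ⟨⟨B, K.s, r, K.s7, r3, rs, hg6, hmap K.s _ (fun i hi => (act_lt ⟨i, hi⟩).1) imgs
      (fun z hz => (act_words ⟨z, hz⟩).1), hmap r _ (fun i hi => (act_lt ⟨i, hi⟩).2) imgr
      (fun z hz => (act_words ⟨z, hz⟩).2)⟩, rfl, rfl, g6, fun z _ => hmem z, fun q hq => ?_⟩
  have hinj : Function.Injective (fun z : Fin 128 => (⟨B.ι z.val, hmem _⟩ : K.Q)) := fun a b h =>
    Fin.ext (B.ι_inj hg6 a.isLt b.isLt (congrArg Subtype.val h))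
  obtain ⟨z, hz⟩ := (hinj.bijective_of_nat_card_le (by rw [K.card, Nat.card_fin])).2 ⟨q, hq⟩
  exact ⟨z, z.isLt, congrArg Subtype.val hz⟩

end Cfsg.Lib.HeldCent
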