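import Cfsg.Agent.HeldCent.Mult
import Cfsg.Agent.HeldCent.Cands
import Cfsg.Agent.HeldType.Rep

/-!
The centraliser of a transvection of SL(5,2) as one of the extensions.
-/

set_option autoImplicit false
set_option maxRecDepth 100000

namespace Cfsg.Lib.HeldCent

open Cfsg.Lib.HeldType (valid cm mat cOne cs SL5 exists_el valid_cm valid_one mat_cm mat_one)

/-- The element of a code. -/
noncomputable def el (c : ℕ) : cs :=
  if h : valid c = true then ⟨Classical.choose (exists_el h), (Classical.choose_spec (exists_el h)).1⟩ else 1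

theorem el_val {c : ℕ} (h : valid c = true) : (el c : SL5).1 = mat c := by
  rw [el, dif_pos h]
  exact (Classical.choose_spec (exists_el h)).2

theorem el_mul {a b : ℕ} (ha : valid a = true) (hb : valid b = true) : el a * el b = el (cm a b) := by
  refine Subtype.ext (Subtype.ext ?_)
  rw [el_val (valid_cm ha hb), mat_cm, ← el_val ha, ← el_val hb]
  rfl

theorem el_one : el cOne = 1 := by
  refine Subtype.ext (Subtype.ext ?_)
  rw [el_val valid_one, mat_one]
  rfl

/-- The codes of the seven generators. -/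
def genC : ℕ → ℕ
  | 0 => 17043545
  | 1 => 17043525
  | 2 => 17043537
  | 3 => 17109057
  | 4 => 17045569
  | 5 => 19206209
  | _ => 17043523

/-- The codes of the three further generators and their inverses. -/
def sC : ℕ := 4612161

/-- The inverse of the element of order 7. -/
def sI : ℕ := 30163009

/-- The element of order 3. -/
def rC : ℕ := 5132353

/-- The inverse of the element of order 3. -/
def rI : ℕ := 21381185

/-- The involution. -/
def cC : ℕ := 5128257

theorem gens_valid : (∀ i : Fin 7, valid (genC i.val) = true) ∧ valid sC = true ∧ valid sI = true ∧ valid rC = true ∧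
    valid rI = true ∧ valid cC = true := by decide +kernel

theorem genC_valid {i : ℕ} : valid (genC i) = true := by
  rcases lt_or_ge i 7 with h | h
  · exact gens_valid.1 ⟨i, h⟩
  · obtain ⟨j, rfl⟩ : ∃ j, i = j + 7 := ⟨i - 7, by omega⟩
    exact gens_valid.1 ⟨6, by norm_num⟩

theorem gens_rels : (∀ i : Fin 7, cm (genC i.val) (genC i.val) = cOne) ∧
    (∀ p ∈ ([(0, 1), (0, 2), (1, 2), (3, 4), (3, 5), (4, 5), (1, 3), (2, 3), (0, 4), (2, 4), (0, 5), (1, 5)] : List (ℕ × ℕ)),
      cm (genC p.2) (genC p.1) = cm (genC p.1) (genC p.2)) ∧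
    (∀ i : Fin 3, cm (genC (i.val + 3)) (genC i.val) = cm (cm (genC i.val) (genC (i.val + 3))) (genC 6)) ∧
    cm sC sI = cOne ∧ cm rC rI = cOne ∧ cm cC cC = cOne ∧
    cm (cm sC (cm sC sC)) (cm sC (cm sC (cm sC sC))) = cOne ∧ cm rC (cm rC rC) = cOne ∧
    cm (cm rC sC) rI = cm sC sC ∧ cm (cm cC rC) cC = rI ∧
    cm (cm (cm sC cC) (cm sC cC)) (cm sC cC) = cOne := by decide +kernel

theorem z_central : ∀ h : cs, el (genC 6) * h = h * el (genC 6) := by
  intro h
  have hz : (el (genC 6) : SL5) = Cfsg.Lib.HeldType.sEl := Subtype.ext (el_val genC_valid)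
  refine Subtype.ext ?_
  show (el (genC 6) : SL5) * (h : SL5) = (h : SL5) * (el (genC 6) : SL5)
  rw [hz]
  exact (Subgroup.mem_centralizer_singleton_iff.mp h.2).symm

/-- The seven generators in the centraliser. -/
noncomputable def modelBasis : Basis cs :=
  have one := fun {p : ℕ × ℕ} (h : p ∈ ([(0, 1), (0, 2), (1, 2), (3, 4), (3, 5), (4, 5), (1, 3), (2, 3), (0, 4), (2, 4), (0, 5), (1, 5)] : List (ℕ × ℕ))) =>
    show el (genC p.2) * el (genC p.1) = el (genC p.1) * el (genC p.2) by
      rw [el_mul genC_valid genC_valid, el_mul genC_valid genC_valid, gens_rels.2.1 p h]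
  have tw := fun (i : Fin 3) =>
    show el (genC (i.val + 3)) * el (genC i.val) = el (genC i.val) * el (genC (i.val + 3)) * el (genC 6) by
      rw [el_mul genC_valid genC_valid, el_mul genC_valid genC_valid,
        el_mul (valid_cm genC_valid genC_valid) genC_valid, gens_rels.2.2.1 i]
  { g := fun i => el (genC i)
    sq := fun i hi => by rw [el_mul genC_valid genC_valid, gens_rels.1 ⟨i, hi⟩, el_one]
    cen := z_central
    uu01 := one (p := (0, 1)) (by simp)
    uu02 := one (p := (0, 2)) (by simp)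
    uu12 := one (p := (1, 2)) (by simp)
    pp34 := one (p := (3, 4)) (by simp)
    pp35 := one (p := (3, 5)) (by simp)
    pp45 := one (p := (4, 5)) (by simp)
    d30 := tw 0
    d31 := one (p := (1, 3)) (by simp)
    d32 := one (p := (2, 3)) (by simp)
    d40 := one (p := (0, 4)) (by simp)
    d41 := tw 1
    d42 := one (p := (2, 4)) (by simp)
    d50 := one (p := (0, 5)) (by simp)
    d51 := one (p := (1, 5)) (by simp)
    d52 := tw 2 }

/-- The code of an element of the normal subgroup. -/
def codeQ (z : ℕ) : ℕ :=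
  let f := fun i acc => bif z.testBit i then cm (genC i) acc else acc
  f 0 (f 1 (f 2 (f 3 (f 4 (f 5 (f 6 cOne))))))

theorem codeQ_spec (z : ℕ) : valid (codeQ z) = true ∧ modelBasis.ι z = el (codeQ z) := by
  have step : ∀ (i acc : ℕ) (X : cs), valid acc = true → X = el acc →
      valid (bif z.testBit i then cm (genC i) acc else acc) = true ∧
        selC (z.testBit i) (modelBasis.g i) * X = el (bif z.testBit i then cm (genC i) acc else acc) := by
    intro i acc X hv hX
    cases z.testBit i
    · exact ⟨hv, by rw [selC, cond_false, one_mul, hX, cond_false]⟩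
    · exact ⟨valid_cm genC_valid hv, by rw [selC, cond_true, hX]; exact el_mul genC_valid hv⟩
  obtain ⟨v6, e6⟩ := step 6 cOne 1 valid_one el_one.symm
  rw [mul_one] at e6
  obtain ⟨v5, e5⟩ := step 5 _ _ v6 e6
  obtain ⟨v4, e4⟩ := step 4 _ _ v5 e5
  obtain ⟨v3, e3⟩ := step 3 _ _ v4 e4
  obtain ⟨v2, e2⟩ := step 2 _ _ v3 e3
  obtain ⟨v1, e1⟩ := step 1 _ _ v2 e2
  obtain ⟨v0, e0⟩ := step 0 _ _ v1 e1
  exact ⟨v0, e0⟩

theorem imgs_ok : (∀ z : Fin 128, cm (cm sC (codeQ z.val)) sI = codeQ (pk (sT 1) z.val) ∧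
    cm (cm rC (codeQ z.val)) rI = codeQ (pk (rT 1) z.val) ∧
    cm (cm cC (codeQ z.val)) cC = codeQ (pk par0.tab z.val)) ∧ codeQ 0 = cOne := by decide +kernel

theorem inv_el {a b : ℕ} (ha : valid a = true) (hb : valid b = true) (h : cm a b = cOne) : (el a)⁻¹ = el b :=
  inv_eq_of_mul_eq_one_right (by rw [el_mul ha hb, h, el_one])

theorem model_conj {a b : ℕ} (P : ℕ) (ha : valid a = true) (hb : valid b = true) (hab : cm a b = cOne)
    (h : ∀ z < 128, cm (cm a (codeQ z)) b = codeQ (pk P z)) :
    ∀ z < 128, el a * modelBasis.ι z * (el a)⁻¹ = modelBasis.ι (pk P z) := by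
  intro z hz
  rw [(codeQ_spec z).2, (codeQ_spec (pk P z)).2, inv_el ha hb hab, el_mul ha (codeQ_spec z).1,
    el_mul (valid_cm ha (codeQ_spec z).1) hb, h z hz]

theorem t_ne_one : modelBasis.g 6 ≠ 1 := by
  intro h
  have h1 := congrArg (fun x : cs => (x : SL5).1) h
  simp only [show modelBasis.g 6 = el (genC 6) from rfl, el_val genC_valid] at h1
  have h2 : mat (genC 6) = mat cOne := by rw [mat_one]; exact h1
  exact absurd (Cfsg.Lib.HeldType.mat_inj (Cfsg.Lib.HeldType.valid_lt genC_valid)
    (Cfsg.Lib.HeldType.valid_lt valid_one) h2) (by decide)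

/-- The centraliser of the transvection with its coordinates. -/
theorem exists_model : ∃ D : Gen par0 cs, D.B = modelBasis := by
  obtain ⟨-, vs, vsi, vr, vri, vc⟩ := gens_valid
  obtain ⟨-, -, -, hs, hr, hc, hs7, hr3, hrs, hcr, hsc⟩ := gens_rels
  have v2 : ∀ {a}, valid a = true → valid (cm a a) = true := fun ha => valid_cm ha ha
  have v3 : valid (cm sC (cm sC sC)) = true := valid_cm vs (v2 vs)
  have vsc := valid_cm vs vc
  refine ⟨{ B := modelBasis, s := el sC, r := el rC, c := el cC, t_ne := t_ne_one, s7 := ?_, r3 := ?_, rs := ?_,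
            s_ι := model_conj _ vs vsi hs fun z hz => (imgs_ok.1 ⟨z, hz⟩).1,
            r_ι := model_conj _ vr vri hr fun z hz => (imgs_ok.1 ⟨z, hz⟩).2.1,
            c_ι := model_conj _ vc vc hc fun z hz => (imgs_ok.1 ⟨z, hz⟩).2.2,
            cr := ?_, csq := ?_, sc3 := ?_ }, rfl⟩
  · rw [show el sC ^ 7 = el sC * (el sC * el sC) * (el sC * (el sC * (el sC * el sC))) by
      simp only [pow_succ, pow_zero, one_mul, mul_assoc]]
    rw [el_mul vs vs, el_mul vs (v2 vs), el_mul vs v3, el_mul v3 (valid_cm vs v3), hs7, el_one]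
  · rw [pow_succ, pow_two, mul_assoc, el_mul vr vr, el_mul vr (v2 vr), hr3, el_one]
  · rw [inv_el vr vri hr, pow_two, el_mul vr vs, el_mul (valid_cm vr vs) vri, el_mul vs vs, hrs]
  · rw [inv_el vc vc hc, inv_el vr vri hr, el_mul vc vr, el_mul (valid_cm vc vr) vc, hcr]
  · rw [el_mul vc vc, hc, el_one, show par0.z2 = 0 from rfl, modelBasis.ι_zero]
  · rw [pow_succ, pow_two, el_mul vs vc, el_mul vsc vsc, el_mul (v2 vsc) vsc, hsc, el_one,
      show par0.z3 = 0 from rfl, modelBasis.ι_zero]

end Cfsg.Lib.HeldCent
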