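import Cfsg.Agent.HeldCent.Extend

/-!
Two extensions with the same parameters are isomorphic.
-/

set_option autoImplicit false
set_option maxRecDepth 100000

namespace Cfsg.Lib.HeldCent

open Subgroup

theorem code_lt {q n k w : ℕ} (hq : q < 128) (hn : n < 7) (hk : k < 3) (hw : w < 8) : code q n k w < 21504 := by
  unfold code
  omega

theorem wC_lt {a : ℕ} (ha : a < 21504) : wC a < 8 := by
  unfold wC
  omega

theorem mulC_lt {P : Par} (hP : parOK P = true) (b : ℕ) : mulC P b < 21504 := by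
  obtain ⟨hT, -, -⟩ := Gen.par_lt hP
  have h7 : ∀ x, x % 7 < 7 := fun x => Nat.mod_lt x (by norm_num)
  have h3 : ∀ x, x % 3 < 3 := fun x => Nat.mod_lt x (by norm_num)
  have hq := hT (dec_lt b).1
  have hq' := qm_range hq (dec_lt (csc P (nC b))).1
  simp only [mulC]
  cases hw : wC b with
  | zero => exact code_lt hq (by norm_num) (h3 _) (by have := h7 (nC b * four (kC b)); omega)
  | succ m =>
    simp only []
    cases he : wC (csc P (nC b)) with
    | zero => exact code_lt hq' (h7 _) (h3 _) (by norm_num)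
    | succ u =>
      have := h7 ((u + m * four (kC b) % 7) * two (kC b))
      exact code_lt hq' (dec_lt _).2.1 (h3 _) (by omega)

theorem mul_lt {P : Par} (hP : parOK P = true) {a b : ℕ} (ha : a < 21504) (hb : b < 21504) : mul P a b < 21504 := by
  obtain ⟨hq, hn, hk⟩ := dec_lt a
  have hw : mulW P (wC a) b < 21504 := by
    cases wC a with
    | zero => exact hb
    | succ l => exact mulC_lt hP _
  have hR : mulR (kC a) (mulW P (wC a) b) < 21504 :=
    code_lt (rT_lt hk (dec_lt _).1) (Nat.mod_lt _ (by norm_num)) (Nat.mod_lt _ (by norm_num)) (wC_lt hw)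
  have hS : mulS (nC a) (mulR (kC a) (mulW P (wC a) b)) < 21504 :=
    code_lt (sT_lt hn (dec_lt _).1) (Nat.mod_lt _ (by norm_num)) (dec_lt _).2.2 (wC_lt hR)
  exact code_lt (qm_range hq (dec_lt _).1) (dec_lt _).2.1 (dec_lt _).2.2 (wC_lt hS)

variable {P : Par} {C : Type*} [Group C] (D : Gen P C)

theorem Gen.η_code {z : ℕ} (hz : z < 128) : D.η z = D.B.ι z := by
  have h : qC z = z ∧ nC z = 0 ∧ kC z = 0 ∧ wC z = 0 := by unfold qC nC kC wC; omega
  simp [Gen.η, Gen.E, Gen.W, h.1, h.2.1, h.2.2.1, h.2.2.2]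

/-- Two extensions with the same parameters are isomorphic. -/
theorem exists_iso (hP : parOK P = true) (hinj : Set.InjOn D.η {a | a < 21504}) (hsur : ∀ g, ∃ a < 21504, D.η a = g)
    (hC : Nat.card C = 21504) (Q : Subgroup C) [Q.Normal] (hQ : ∀ q ∈ Q, ∃ z < 128, D.B.ι z = q)
    (hself : Subgroup.centralizer (Q : Set C) ≤ Q) {C' : Type*} [Group C'] [Finite C'] (D' : Gen P C')
    (hC' : Nat.card C' = 21504) : ∃ φ : C ≃* C', ∀ a < 21504, φ (D.η a) = D'.η a := by
  choose co hco hcoe using hsur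
  have hcom : ∀ a < 21504, co (D.η a) = a := fun a ha => hinj (hco _) ha (hcoe _)
  let ψ : C →* C' := MonoidHom.mk' (fun g => D'.η (co g)) fun g h => by
    have e : co (g * h) = mul P (co g) (co h) :=
      hinj (hco _) (mul_lt hP (hco _) (hco _)) (by rw [hcoe, D.η_mul hP (hco _), hcoe, hcoe])
    show D'.η (co (g * h)) = _
    rw [e, D'.η_mul hP (hco _)]
  have hψ : ∀ a < 21504, ψ (D.η a) = D'.η a := fun a ha => by show D'.η (co _) = _; rw [hcom a ha]
  have hQinj : ∀ q ∈ Q, ψ q = 1 → q = 1 := by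
    intro q hq h
    obtain ⟨z, hz, rfl⟩ := hQ q hq
    rw [← D.η_code hz, hψ z (by omega), D'.η_code hz] at h
    rw [D'.B.eq_zero D'.t_ne hz h, D.B.ι_zero]
  have hker : Function.Injective ψ := (injective_iff_map_eq_one ψ).mpr fun g hg => by
    refine hQinj g (hself (Subgroup.mem_centralizer_iff.mpr fun q hq => ?_)) hg
    have h1 : g * q * g⁻¹ * q⁻¹ = 1 := hQinj _ (Q.mul_mem ((inferInstance : Q.Normal).conj_mem q hq g) (Q.inv_mem hq))
      (by simp [hg])
    exact (mul_inv_eq_iff_eq_mul.mp (mul_inv_eq_one.mp h1)).symm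
  exact ⟨MulEquiv.ofBijective ψ (hker.bijective_of_nat_card_le (le_of_eq (hC'.trans hC.symm))), hψ⟩

end Cfsg.Lib.HeldCent
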