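import Cfsg.Agent.HeldCent.GoodModel
import Cfsg.Agent.HeldCent.Bad
import Cfsg.Agent.HeldCent.BadCheck1
import Cfsg.Agent.HeldCent.BadCheck2
import Cfsg.Agent.HeldCent.BadCheck3
import Cfsg.Agent.HeldCent.BadCheck4
import Cfsg.Agent.HeldCent.BadCheck5
import Cfsg.Agent.HeldType.Main
import Cfsg.Agent.S0364

/-!
Uniqueness of the Held group by the centraliser of an involution and the order.
-/

set_option autoImplicit false
set_option maxRecDepth 100000

namespace Cfsg.Lib.HeldCent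

open Subgroup

theorem scan_blocks {T : BadD} (h0 : allP T.sqScan 12 0 = true) (h1 : allP T.sqScan 12 4096 = true)
    (h2 : allP T.sqScan 12 8192 = true) (h3 : allP T.sqScan 12 12288 = true) (h4 : allP T.sqScan 12 16384 = true)
    (h5 : allP T.sqScan 12 20480 = true) : ∀ x < 21504, T.sqScan x = true := by
  intro x hx
  rcases Nat.lt_or_ge x 4096 with a | a
  · exact allP_sound _ _ _ h0 x (Nat.zero_le _) (by norm_num; omega)
  rcases Nat.lt_or_ge x 8192 with b | b
  · exact allP_sound _ _ _ h1 x a (by norm_num; omega)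
  rcases Nat.lt_or_ge x 12288 with c | c
  · exact allP_sound _ _ _ h2 x b (by norm_num; omega)
  rcases Nat.lt_or_ge x 16384 with d | d
  · exact allP_sound _ _ _ h3 x c (by norm_num; omega)
  rcases Nat.lt_or_ge x 20480 with f | f
  · exact allP_sound _ _ _ h4 x d (by norm_num; omega)
  · exact allP_sound _ _ _ h5 x f (by norm_num; omega)

theorem cls_blocks {T : BadD} (n : ℕ) (hlen : T.cls.length = n) (h : ∀ j < n, (T.cls[j]?).all T.clsChk = true) :
    T.clsOK = true := by
  simp only [BadD.clsOK, List.all_eq_true]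
  intro c hc
  obtain ⟨j, hj, e⟩ := List.mem_iff_getElem.mp hc
  have := h j (hlen ▸ hj)
  rw [List.getElem?_eq_getElem hj, e] at this
  exact this

theorem bad1_ok : (∀ x < 21504, bad1.sqScan x = true) ∧ bad1.clsOK = true :=
  ⟨scan_blocks bad1_scan0 bad1_scan1 bad1_scan2 bad1_scan3 bad1_scan4 bad1_scan5,
    cls_blocks 5 bad1_len fun j hj => by
      interval_cases j
      exacts [bad1_cls0, bad1_cls1, bad1_cls2, bad1_cls3, bad1_cls4]⟩

theorem bad2_ok : (∀ x < 21504, bad2.sqScan x = true) ∧ bad2.clsOK = true :=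
  ⟨scan_blocks bad2_scan0 bad2_scan1 bad2_scan2 bad2_scan3 bad2_scan4 bad2_scan5,
    cls_blocks 7 bad2_len fun j hj => by
      interval_cases j
      exacts [bad2_cls0, bad2_cls1, bad2_cls2, bad2_cls3, bad2_cls4, bad2_cls5, bad2_cls6]⟩

theorem bad3_ok : (∀ x < 21504, bad3.sqScan x = true) ∧ bad3.clsOK = true :=
  ⟨scan_blocks bad3_scan0 bad3_scan1 bad3_scan2 bad3_scan3 bad3_scan4 bad3_scan5,
    cls_blocks 4 bad3_len fun j hj => by
      interval_cases j
      exacts [bad3_cls0, bad3_cls1, bad3_cls2, bad3_cls3]⟩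

theorem bad4_ok : (∀ x < 21504, bad4.sqScan x = true) ∧ bad4.clsOK = true :=
  ⟨scan_blocks bad4_scan0 bad4_scan1 bad4_scan2 bad4_scan3 bad4_scan4 bad4_scan5,
    cls_blocks 4 bad4_len fun j hj => by
      interval_cases j
      exacts [bad4_cls0, bad4_cls1, bad4_cls2, bad4_cls3]⟩

theorem bad5_ok : (∀ x < 21504, bad5.sqScan x = true) ∧ bad5.clsOK = true :=
  ⟨scan_blocks bad5_scan0 bad5_scan1 bad5_scan2 bad5_scan3 bad5_scan4 bad5_scan5,
    cls_blocks 3 bad5_len fun j hj => by
      interval_cases j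
      exacts [bad5_cls0, bad5_cls1, bad5_cls2]⟩

theorem parOK_all : ∀ P ∈ parL, parOK P = true := fun P hP => by
  obtain ⟨a, b, c⟩ := parL_ok P hP
  simp only [parOK, a, Bool.true_and, Bool.and_eq_true, Nat.blt_eq]
  exact ⟨b, c⟩

/-- A simple group of this order with this involution centraliser is the Held group. -/
theorem iso_he {G : Type*} [Group G] [Finite G] [IsSimpleGroup G] (t : G) (ht : orderOf t = 2)
    (Q : Subgroup (Subgroup.centralizer ({t} : Set G))) [Q.Normal] (hQ : Cfsg.IsExtraspecial 2 Q)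
    (hcard : Nat.card Q = 2 ^ 7) (h2c : Subgroup.centralizer (Q : Set (Subgroup.centralizer ({t} : Set G))) ≤ Q)
    (e : (Subgroup.centralizer ({t} : Set G)) ⧸ Q ≃* Matrix.SpecialLinearGroup (Fin 3) (ZMod 2))
    (hG : Nat.card G = 4030387200) : Cfsg.Spor.IsoHe G := by
  have t1 : t ≠ 1 := fun h => by rw [h, orderOf_one] at ht; norm_num at ht
  let tC : Subgroup.centralizer ({t} : Set G) := ⟨t, mem_centralizer_singleton_iff.mpr rfl⟩
  have tc : ∀ g, tC * g = g * tC := fun g => Subtype.ext (mem_centralizer_singleton_iff.mp g.2).symm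
  obtain ⟨P, hP, D, hDt, -, hDsur, hinj, hsur⟩ := exists_gen Q tC tc (fun h => t1 (congrArg Subtype.val h)) hQ
    (by rw [hcard]; norm_num) h2c e
  have hDt' : ((D.B.g 6 : Subgroup.centralizer ({t} : Set G)) : G) = t := congrArg Subtype.val hDt
  have hcardC : Nat.card (Subgroup.centralizer ({t} : Set G)) = 21504 := by
    have hb : Function.Bijective (fun a : Fin 21504 => D.η a.val) :=
      ⟨fun a b h => Fin.ext (hinj a.isLt b.isLt h), fun g => by obtain ⟨a, ha, e⟩ := hsur g; exact ⟨⟨a, ha⟩, e⟩⟩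
    rw [← Nat.card_eq_of_bijective _ hb, Nat.card_fin]
  have hPok := parOK_all P hP
  simp only [parL, List.mem_cons, List.not_mem_nil, or_false] at hP
  rcases hP with rfl | rfl | rfl | rfl | rfl | rfl
  · obtain ⟨M, -⟩ := exists_model
    obtain ⟨φ, -⟩ := exists_iso D hPok hinj hsur hcardC Q hDsur h2c (D' := M)
      (Cfsg.Agent.S0445.result Cfsg.Lib.HeldType.sEl Cfsg.Lib.HeldType.mat_z)
    have hfus : ∃ g : G, g * t * g⁻¹ * t = t * (g * t * g⁻¹) ∧ g * t * g⁻¹ ≠ t := by
      by_contra h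
      push Not at h
      refine not_isolated ht (by rw [hcardC, hG]; norm_num) ⟨ht, fun g hg => h g hg.eq.symm⟩
    rcases Cfsg.Lib.HeldType.listed_of_fused t ht φ hfus with ⟨-, h⟩ | ⟨⟨f⟩⟩ | ⟨⟨f⟩⟩ | h
    · exact absurd ‹IsSimpleGroup G› h
    · rw [Nat.card_congr f.toEquiv, Cfsg.Lib.HeldType.card_SL5] at hG
      norm_num at hG
    · rw [Nat.card_congr f.toEquiv, Cfsg.Agent.S0364.result] at hG
      norm_num at hG
    · exact h
  · exact (no_bad (T := bad1) t ht hG hPok D hinj hsur hDt' bad1_ok.1 bad1_ok.2 bad1_inv (Or.inl rfl)).elim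
  · exact (no_bad (T := bad2) t ht hG hPok D hinj hsur hDt' bad2_ok.1 bad2_ok.2 bad2_inv (Or.inr (by decide))).elim
  · exact (no_bad (T := bad3) t ht hG hPok D hinj hsur hDt' bad3_ok.1 bad3_ok.2 bad3_inv (Or.inl rfl)).elim
  · exact (no_bad (T := bad4) t ht hG hPok D hinj hsur hDt' bad4_ok.1 bad4_ok.2 bad4_inv (Or.inr (by decide))).elim
  · exact (no_bad (T := bad5) t ht hG hPok D hinj hsur hDt' bad5_ok.1 bad5_ok.2 bad5_inv (Or.inl rfl)).elim

end Cfsg.Lib.HeldCent
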