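import Cfsg.Agent.HeldCent.Frame

/-!
The multiplication of an extension is determined by its parameters.
-/

set_option autoImplicit false
set_option linter.unusedSimpArgs false
set_option maxRecDepth 100000

namespace Cfsg.Lib.HeldCent

/-- An extension with given parameters. -/
structure Gen (P : Par) (C : Type*) [Group C] extends Frame C where
  c : C
  c_ι : ∀ z < 128, c * B.ι z * c⁻¹ = B.ι (pk P.tab z)
  cr : c * r * c⁻¹ = r⁻¹
  csq : c * c = B.ι P.z2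
  sc3 : (s * c) ^ 3 = B.ι P.z3

/-- The parameters are in range. -/
def parOK (P : Par) : Bool :=
  ((List.range 128).all fun z => Nat.blt (pk P.tab z) 128) && Nat.blt P.z2 128 && Nat.blt P.z3 128

theorem act_tab : ∀ z : Fin 128, (∀ l : Fin 6, pk (sT (l.val + 1)) z.val = pk (sT 1) (pk (sT l.val) z.val)) ∧
    pk (rT 2) z.val = pk (rT 1) (pk (rT 1) z.val) ∧ pk (sT 0) z.val = z.val ∧ pk (rT 0) z.val = z.val := by
  decide +kernel

theorem act_range : ∀ z : Fin 128, (∀ l : Fin 7, pk (sT l.val) z.val < 128) ∧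
    ∀ k : Fin 3, pk (rT k.val) z.val < 128 := by decide +kernel

theorem sT_lt {l z : ℕ} (hl : l < 7) (hz : z < 128) : pk (sT l) z < 128 := (act_range ⟨z, hz⟩).1 ⟨l, hl⟩

theorem rT_lt {k z : ℕ} (hk : k < 3) (hz : z < 128) : pk (rT k) z < 128 := (act_range ⟨z, hz⟩).2 ⟨k, hk⟩

theorem qi_lt {z : ℕ} (hz : z < 128) : qi z < 128 := (qm_qi ⟨z, hz⟩).1

theorem dec_mk {q n k : ℕ} (w : ℕ) (hq : q < 128) (hn : n < 7) (hk : k < 3) :
    qC (code q n k w) = q ∧ nC (code q n k w) = n ∧ kC (code q n k w) = k ∧ wC (code q n k w) = w := by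
  unfold qC nC kC wC code
  omega

theorem dec_lt (a : ℕ) : qC a < 128 ∧ nC a < 7 ∧ kC a < 3 := by unfold qC nC kC; omega

variable {C : Type*} [Group C] {P : Par} (D : Gen P C) (hP : parOK P = true)

/-- A coset factor. -/
def Gen.W : ℕ → C
  | 0 => 1
  | l + 1 => D.c * D.s ^ l

/-- An element in normal form. -/
def Gen.E (q n k w : ℕ) : C := D.B.ι q * D.s ^ n * D.r ^ k * D.W w

/-- The element of a code. -/
def Gen.η (a : ℕ) : C := D.E (qC a) (nC a) (kC a) (wC a)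

theorem Gen.η_mk {q n k : ℕ} (w : ℕ) (hq : q < 128) (hn : n < 7) (hk : k < 3) : D.η (code q n k w) = D.E q n k w := by
  obtain ⟨a, b, c, d⟩ := dec_mk w hq hn hk
  rw [Gen.η, a, b, c, d]

theorem Gen.s_mod (n : ℕ) : D.s ^ (n % 7) = D.s ^ n := (pow_eq_pow_mod n D.s7).symm

theorem Gen.r_mod (n : ℕ) : D.r ^ (n % 3) = D.r ^ n := (pow_eq_pow_mod n D.r3).symm

theorem Gen.sι : ∀ {l : ℕ}, l < 7 → ∀ {z : ℕ}, z < 128 → D.s ^ l * D.B.ι z = D.B.ι (pk (sT l) z) * D.s ^ l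
  | 0, _, z, hz => by
    rw [show pk (sT 0) z = z from (act_tab ⟨z, hz⟩).2.2.1]
    simp
  | l + 1, hl, z, hz => by
    rw [show pk (sT (l + 1)) z = pk (sT 1) (pk (sT l) z) from (act_tab ⟨z, hz⟩).1 ⟨l, by omega⟩,
      ← D.s_ι _ (sT_lt (by omega) hz), pow_succ', mul_assoc, Gen.sι (Nat.lt_of_succ_lt hl) hz]
    group

theorem Gen.rι {k : ℕ} (hk : k < 3) {z : ℕ} (hz : z < 128) : D.r ^ k * D.B.ι z = D.B.ι (pk (rT k) z) * D.r ^ k := by
  obtain ⟨-, h2, -, h0⟩ := act_tab ⟨z, hz⟩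
  interval_cases k
  · simp only [h0, pow_zero, one_mul, mul_one]
  · rw [pow_one, ← D.r_ι z hz]; group
  · rw [h2, ← D.r_ι _ (rT_lt (by norm_num) hz), ← D.r_ι z hz, pow_two]; group

theorem Gen.cι {z : ℕ} (hz : z < 128) : D.c * D.B.ι z = D.B.ι (pk P.tab z) * D.c := by
  rw [← D.c_ι z hz]; group

theorem Gen.r1s (n : ℕ) : D.r * D.s ^ n = D.s ^ (2 * n) * D.r := by
  rw [pow_mul, ← D.rs, conj_pow]; group

theorem Gen.rks : ∀ (k n : ℕ), D.r ^ k * D.s ^ n = D.s ^ (2 ^ k * n) * D.r ^ k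
  | 0, n => by simp
  | k + 1, n => by
    rw [pow_succ, mul_assoc, D.r1s, ← mul_assoc, Gen.rks k, mul_assoc, ← pow_succ, ← mul_assoc (2 ^ k), ← pow_succ]

theorem Gen.crk (k : ℕ) : D.c * D.r ^ k = D.r ^ (2 * k) * D.c := by
  have h : D.r ^ (2 * k) = (D.r⁻¹) ^ k := by
    rw [pow_mul, inv_pow]
    refine eq_inv_of_mul_eq_one_left ?_
    rw [← pow_mul, ← pow_add, show 2 * k + k = 3 * k by ring, pow_mul, D.r3, one_pow]
  rw [h, ← D.cr, conj_pow]; group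

theorem Gen.s_inv : D.s⁻¹ = D.s ^ 6 := by
  refine inv_eq_of_mul_eq_one_right ?_
  rw [← pow_succ', D.s7]

theorem Gen.c_inv (h2 : P.z2 < 128) : D.c⁻¹ = D.B.ι (qi P.z2) * D.c := by
  rw [D.B.ι_qi h2, ← D.csq]; group

theorem Gen.csc_step {n q a b u : ℕ} (hq : q < 128) (h : D.c * D.s ^ n * D.c = D.B.ι q * D.s ^ a * D.r ^ b * (D.c * D.s ^ u)) :
    D.c * D.s ^ (4 * n) * D.c = D.B.ι (pk (rT 1) q) * D.s ^ (2 * a) * D.r ^ (b + 2) * (D.c * D.s ^ (2 * u)) := by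
  have hrc : D.r * D.c = D.c * D.r ^ 2 := by rw [D.crk 2, pow_succ, show D.r ^ (2 * 2 - 1) = 1 from D.r3, one_mul]
  have hr2 : D.r ^ 2 * D.c = D.c * D.r ^ 4 := by
    rw [D.crk 4, ← D.r_mod (2 * 4)]
  have hl : D.r * (D.c * D.s ^ n * D.c) * D.r ^ 2 = D.c * D.s ^ (4 * n) * D.c := by
    rw [show D.r * (D.c * D.s ^ n * D.c) * D.r ^ 2 = (D.r * D.c) * D.s ^ n * D.c * D.r ^ 2 by group, hrc,
      mul_assoc D.c, D.rks 2, show D.c * (D.s ^ (2 ^ 2 * n) * D.r ^ 2) * D.c * D.r ^ 2 =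
        D.c * D.s ^ (2 ^ 2 * n) * (D.r ^ 2 * D.c) * D.r ^ 2 by group, hr2,
      show D.c * D.s ^ (2 ^ 2 * n) * (D.c * D.r ^ 4) * D.r ^ 2 =
        D.c * D.s ^ (2 ^ 2 * n) * D.c * ((D.r ^ 3) * (D.r ^ 3)) by group, D.r3, one_mul, mul_one]
    norm_num
  rw [← hl, h]
  have hb : D.r * (D.B.ι q * D.s ^ a * D.r ^ b * (D.c * D.s ^ u)) * D.r ^ 2 =
      (D.r ^ 1 * D.B.ι q) * D.s ^ a * D.r ^ b * (D.c * D.s ^ u) * D.r ^ 2 := by group
  rw [hb, D.rι (by norm_num) hq, pow_one,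
    show D.B.ι (pk (rT 1) q) * D.r * D.s ^ a * D.r ^ b * (D.c * D.s ^ u) * D.r ^ 2 =
      D.B.ι (pk (rT 1) q) * (D.r * D.s ^ a) * D.r ^ b * D.c * (D.s ^ u * D.r ^ 2) by group, D.r1s]
  have e1 : D.s ^ u * D.r ^ 2 = D.r ^ 2 * D.s ^ (2 * u) := by
    rw [D.rks 2, ← D.s_mod (2 ^ 2 * _), show 2 ^ 2 * (2 * u) % 7 = u % 7 by omega, D.s_mod]
  rw [e1, show D.B.ι (pk (rT 1) q) * (D.s ^ (2 * a) * D.r) * D.r ^ b * D.c * (D.r ^ 2 * D.s ^ (2 * u)) =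
      D.B.ι (pk (rT 1) q) * D.s ^ (2 * a) * (D.r * D.r ^ b) * (D.c * D.r ^ 2) * D.s ^ (2 * u) by group, D.crk 2,
    ← pow_succ', show D.B.ι (pk (rT 1) q) * D.s ^ (2 * a) * D.r ^ (b + 1) * (D.r ^ (2 * 2) * D.c) * D.s ^ (2 * u) =
      D.B.ι (pk (rT 1) q) * D.s ^ (2 * a) * (D.r ^ (b + 1) * D.r ^ (2 * 2)) * (D.c * D.s ^ (2 * u)) by group,
    ← pow_add, show D.r ^ (b + 1 + 2 * 2) = D.r ^ (b + 2) by
      rw [← D.r_mod, show (b + 1 + 2 * 2) % 3 = (b + 2) % 3 by omega, D.r_mod]]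

include hP

theorem Gen.par_lt : (∀ {z : ℕ}, z < 128 → pk P.tab z < 128) ∧ P.z2 < 128 ∧ P.z3 < 128 := by
  simp only [parOK, Bool.and_eq_true, List.all_eq_true, List.mem_range, Nat.blt_eq] at hP
  exact ⟨fun hz => hP.1.1 _ hz, hP.1.2, hP.2⟩

theorem Gen.cq1_spec : cq1 P < 128 ∧ D.c * D.s ^ 1 * D.c = D.B.ι (cq1 P) * D.s ^ 6 * D.r ^ 0 * (D.c * D.s ^ 6) := by
  obtain ⟨hT, h2, h3⟩ := Gen.par_lt hP
  have hi := qi_lt h2
  have hm := qm_range h3 hi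
  refine ⟨sT_lt (by norm_num) hm, ?_⟩
  have e : D.c * D.s ^ 1 * D.c = D.s⁻¹ * (D.s * D.c) ^ 3 * (D.c⁻¹ * D.s⁻¹) := by
    simp only [pow_succ, pow_zero, one_mul]; group
  rw [e, D.sc3, D.s_inv, D.c_inv h2, show D.s ^ 6 * D.B.ι P.z3 * (D.B.ι (qi P.z2) * D.c * D.s ^ 6) =
    D.s ^ 6 * (D.B.ι P.z3 * D.B.ι (qi P.z2)) * (D.c * D.s ^ 6) by group, ← D.B.ι_mul h3 hi, D.sι (by norm_num) hm,
    pow_zero, mul_one]
  rfl

theorem Gen.cq6_spec : cq6 P < 128 ∧ D.c * D.s ^ 6 * D.c = D.B.ι (cq6 P) * D.s ^ 1 * D.r ^ 0 * (D.c * D.s ^ 1) := by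
  obtain ⟨hT, h2, h3⟩ := Gen.par_lt hP
  obtain ⟨hq1, e1⟩ := D.cq1_spec hP
  have hi := qi_lt h2
  have l1 : pk (sT 1) (qi P.z2) < 128 := sT_lt (by norm_num) hi
  have l2 : pk (sT 1) (qi (cq1 P)) < 128 := sT_lt (by norm_num) (qi_lt hq1)
  have l3 : pk P.tab (pk (sT 6) P.z2) < 128 := hT (sT_lt (by norm_num) h2)
  have l4 : pk (sT 1) (pk P.tab (pk (sT 1) (qi (cq1 P)))) < 128 := sT_lt (by norm_num) (hT l2)
  refine ⟨qm_range (qm_range l3 h2) (qm_range l1 l4), ?_⟩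
  have e : D.c * D.s ^ 6 * D.c = D.c * (D.s ^ 6 * (D.c * D.c) * D.s) * D.c⁻¹ * (D.c * D.c) * (D.c * D.s ^ 1 * D.c)⁻¹ := by
    rw [← D.s_inv]; group
  have f1 : D.c * (D.s ^ 6 * D.B.ι P.z2 * D.s) * D.c⁻¹ = D.B.ι (pk P.tab (pk (sT 6) P.z2)) := by
    rw [D.sι (by norm_num) h2, mul_assoc (D.B.ι _), ← pow_succ, D.s7, mul_one, D.c_ι _ (sT_lt (by norm_num) h2)]
  have f2 : (D.c * D.s ^ 1 * D.c)⁻¹ = D.B.ι (pk (sT 1) (qi P.z2)) * D.B.ι (pk (sT 1) (pk P.tab (pk (sT 1) (qi (cq1 P))))) *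
      D.s ^ 1 * D.r ^ 0 * (D.c * D.s ^ 1) := by
    rw [e1, pow_zero, mul_one, ← D.s_inv, pow_one, mul_one]
    simp only [mul_inv_rev, inv_inv]
    rw [← D.B.ι_qi hq1, D.c_inv h2, ← D.s_ι _ hi, ← D.s_ι _ (hT l2), ← D.c_ι _ l2, ← D.s_ι _ (qi_lt hq1)]
    group
  rw [e, D.csq, f1, f2]
  simp only [cq6, D.B.ι_mul (qm_range l3 h2) (qm_range l1 l4), D.B.ι_mul l3 h2, D.B.ι_mul l1 l4, mul_assoc]

theorem Gen.csc_spec {n : ℕ} (hn : n < 7) : D.c * D.s ^ n * D.c = D.η (csc P n) ∧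
    qC (csc P n) < 128 := by
  refine ⟨?_, (dec_lt _).1⟩
  obtain ⟨hT, h2, -⟩ := Gen.par_lt hP
  obtain ⟨q1, e1⟩ := D.cq1_spec hP
  obtain ⟨q6, e6⟩ := D.cq6_spec hP
  have a4 := D.csc_step q1 e1
  have a2 := D.csc_step (rT_lt (by norm_num) q1) a4
  have a3 := D.csc_step q6 e6
  have a5 := D.csc_step (rT_lt (by norm_num) q6) a3
  rw [← (act_tab ⟨_, q1⟩).2.1] at a2
  rw [← (act_tab ⟨_, q6⟩).2.1] at a5
  have nf : ∀ {N q a b u N' a' b' u' : ℕ}, D.c * D.s ^ N * D.c = D.B.ι q * D.s ^ a * D.r ^ b * (D.c * D.s ^ u) →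
      N % 7 = N' % 7 → a % 7 = a' % 7 → b % 3 = b' % 3 → u % 7 = u' % 7 → q < 128 → a' < 7 → b' < 3 →
      D.c * D.s ^ N' * D.c = D.η (code q a' b' (u' + 1)) := by
    intro N q a b u N' a' b' u' h hN ha hb hu hq ha' hb'
    rw [D.η_mk _ hq ha' hb', Gen.E, Gen.W, ← D.s_mod N', ← hN, D.s_mod, h, ← D.s_mod a, ha, D.s_mod, ← D.r_mod b, hb,
      D.r_mod, ← D.s_mod u, hu, D.s_mod]
  interval_cases n
  · show _ = D.η (code P.z2 0 0 0)
    rw [D.η_mk _ h2 (by norm_num) (by norm_num)]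
    simp [Gen.E, Gen.W, D.csq]
  · exact nf e1 rfl rfl rfl rfl q1 (by norm_num) (by norm_num)
  · exact nf a2 rfl rfl rfl rfl (rT_lt (by norm_num) q1) (by norm_num) (by norm_num)
  · exact nf a3 rfl rfl rfl rfl (rT_lt (by norm_num) q6) (by norm_num) (by norm_num)
  · exact nf a4 rfl rfl rfl rfl (rT_lt (by norm_num) q1) (by norm_num) (by norm_num)
  · exact nf a5 rfl rfl rfl rfl (rT_lt (by norm_num) q6) (by norm_num) (by norm_num)
  · exact nf e6 rfl rfl rfl rfl q6 (by norm_num) (by norm_num)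

omit hP in
theorem Gen.mulS_spec {l : ℕ} (hl : l < 7) (b : ℕ) : D.η (mulS l b) = D.s ^ l * D.η b := by
  obtain ⟨hq, -, hk⟩ := dec_lt b
  rw [mulS, D.η_mk _ (sT_lt hl hq) (Nat.mod_lt _ (by norm_num)) hk, Gen.η, Gen.E, Gen.E, D.s_mod, pow_add,
    ← mul_assoc, ← mul_assoc, ← mul_assoc, ← mul_assoc, D.sι hl hq]

omit hP in
theorem Gen.mulR_spec {k : ℕ} (hk : k < 3) (b : ℕ) : D.η (mulR k b) = D.r ^ k * D.η b := by
  obtain ⟨hq, -, -⟩ := dec_lt b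
  have h2 : two k = 2 ^ k := by interval_cases k <;> rfl
  rw [mulR, D.η_mk _ (rT_lt hk hq) (Nat.mod_lt _ (by norm_num)) (Nat.mod_lt _ (by norm_num)), Gen.η, Gen.E, Gen.E,
    D.s_mod, D.r_mod, h2, pow_add, ← mul_assoc, ← mul_assoc, ← mul_assoc, ← mul_assoc, D.rι hk hq,
    mul_assoc (D.B.ι _) (D.r ^ k), D.rks, ← mul_assoc]

theorem Gen.mulC_spec (b : ℕ) : D.η (mulC P b) = D.c * D.η b := by
  obtain ⟨hT, h2, -⟩ := Gen.par_lt hP
  obtain ⟨hq, hn, hk⟩ := dec_lt b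
  obtain ⟨hcsc, hqe⟩ := D.csc_spec hP hn
  have f4 : four (kC b) % 7 = 4 ^ kC b % 7 := by interval_cases kC b <;> rfl
  have f2 : ∀ {k : ℕ}, k < 3 → two k = 2 ^ k := fun hk => by rename_i k; interval_cases k <;> rfl
  have hR : ∀ k n : ℕ, D.r ^ k * D.s ^ (4 ^ k * n) = D.s ^ n * D.r ^ k := by
    intro k n
    rw [D.rks, ← D.s_mod, show (2 ^ k * (4 ^ k * n)) % 7 = n % 7 by
      rw [← mul_assoc, ← Nat.mul_pow, Nat.mul_mod, Nat.pow_mod]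
      norm_num, D.s_mod]
  have s4 : ∀ m : ℕ, D.s ^ (m * four (kC b) % 7) = D.s ^ (4 ^ kC b * m) := fun m => by
    rw [D.s_mod, ← D.s_mod, Nat.mul_mod, f4, ← Nat.mul_mod, Nat.mul_comm, D.s_mod]
  have hrhs : D.c * D.η b = D.B.ι (pk P.tab (qC b)) * (D.c * D.s ^ nC b * D.r ^ kC b * D.W (wC b)) := by
    rw [Gen.η, Gen.E, ← mul_assoc, ← mul_assoc, ← mul_assoc, D.cι hq]
    group
  rw [hrhs]
  cases hw : wC b with
  | zero =>
    have hval : mulC P b = code (pk P.tab (qC b)) 0 (2 * kC b % 3) (1 + nC b * four (kC b) % 7) := by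
      simp only [mulC, hw]
    rw [hval, D.η_mk _ (hT hq) (by norm_num) (Nat.mod_lt _ (by norm_num)), Gen.E, Nat.add_comm 1, Gen.W, Gen.W,
      D.r_mod, s4, pow_zero, mul_one, mul_one, mul_assoc D.c, ← hR, ← mul_assoc D.c, D.crk]
    group
  | succ m =>
    have hmid : D.c * D.s ^ nC b * D.r ^ kC b * D.W (m + 1) =
        D.η (csc P (nC b)) * D.s ^ (4 ^ kC b * m) * D.r ^ (2 * kC b) := by
      rw [Gen.W, show D.c * D.s ^ nC b * D.r ^ kC b * (D.c * D.s ^ m) =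
        D.c * D.s ^ nC b * (D.r ^ kC b * D.c) * D.s ^ m by group,
        show D.r ^ kC b * D.c = D.c * D.r ^ (2 * kC b) by
          rw [D.crk, ← D.r_mod (2 * (2 * kC b)), show 2 * (2 * kC b) % 3 = kC b % 3 by omega, D.r_mod],
        show D.c * D.s ^ nC b * (D.c * D.r ^ (2 * kC b)) * D.s ^ m =
          (D.c * D.s ^ nC b * D.c) * (D.r ^ (2 * kC b) * D.s ^ m) by group, hcsc, D.rks,
        show 2 ^ (2 * kC b) = 4 ^ kC b by rw [pow_mul]; norm_num]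
      group
    rw [hmid]
    obtain ⟨hqe', hne, hke⟩ := dec_lt (csc P (nC b))
    cases he : wC (csc P (nC b)) with
    | zero =>
      have hval : mulC P b = code (qm (pk P.tab (qC b)) (qC (csc P (nC b))))
          ((nC (csc P (nC b)) + two (kC (csc P (nC b))) * (m * four (kC b) % 7)) % 7)
          ((kC (csc P (nC b)) + 2 * kC b) % 3) 0 := by simp only [mulC, hw, he]
      rw [hval, D.η_mk _ (qm_range (hT hq) hqe) (Nat.mod_lt _ (by norm_num)) (Nat.mod_lt _ (by norm_num)), Gen.η,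
        Gen.E, Gen.E, he, Gen.W, D.s_mod, D.r_mod, f2 hke, D.B.ι_mul (hT hq) hqe, pow_add, pow_add]
      have e2 : D.s ^ (2 ^ kC (csc P (nC b)) * (m * four (kC b) % 7)) * D.r ^ kC (csc P (nC b)) =
          D.r ^ kC (csc P (nC b)) * D.s ^ (4 ^ kC b * m) := by rw [← D.rks, s4]
      rw [show D.B.ι (pk P.tab (qC b)) * D.B.ι (qC (csc P (nC b))) *
          (D.s ^ nC (csc P (nC b)) * D.s ^ (2 ^ kC (csc P (nC b)) * (m * four (kC b) % 7))) *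
          (D.r ^ kC (csc P (nC b)) * D.r ^ (2 * kC b)) * 1 = D.B.ι (pk P.tab (qC b)) * D.B.ι (qC (csc P (nC b))) *
          D.s ^ nC (csc P (nC b)) * (D.s ^ (2 ^ kC (csc P (nC b)) * (m * four (kC b) % 7)) *
            D.r ^ kC (csc P (nC b))) * D.r ^ (2 * kC b) by group, e2]
      group
    | succ u =>
      have hval : mulC P b = code (qm (pk P.tab (qC b)) (qC (csc P (nC b)))) (nC (csc P (nC b)))
          ((kC (csc P (nC b)) + kC b) % 3) (1 + (u + m * four (kC b) % 7) * two (kC b) % 7) := by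
        simp only [mulC, hw, he]
      rw [hval, D.η_mk _ (qm_range (hT hq) hqe) hne (Nat.mod_lt _ (by norm_num)), Gen.η, Gen.E, Gen.E, he,
        Nat.add_comm 1, Gen.W, Gen.W, D.r_mod, D.s_mod, f2 hk, D.B.ι_mul (hT hq) hqe, pow_add]
      have hX : D.r ^ (2 * kC b) * D.s ^ ((u + m * four (kC b) % 7) * 2 ^ kC b) =
          D.s ^ u * D.s ^ (4 ^ kC b * m) * D.r ^ (2 * kC b) := by
        rw [D.rks, ← s4, ← pow_add, ← D.s_mod, show 2 ^ (2 * kC b) * ((u + m * four (kC b) % 7) * 2 ^ kC b) % 7 =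
          (u + m * four (kC b) % 7) % 7 by interval_cases kC b <;> omega, D.s_mod]
      have hc2 : D.r ^ kC b * D.c = D.c * D.r ^ (2 * kC b) := by
        rw [D.crk, ← D.r_mod (2 * (2 * kC b)), show 2 * (2 * kC b) % 3 = kC b % 3 by omega, D.r_mod]
      rw [show D.B.ι (pk P.tab (qC b)) * D.B.ι (qC (csc P (nC b))) * D.s ^ nC (csc P (nC b)) *
          (D.r ^ kC (csc P (nC b)) * D.r ^ kC b) * (D.c * D.s ^ ((u + m * four (kC b) % 7) * 2 ^ kC b)) =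
          D.B.ι (pk P.tab (qC b)) * D.B.ι (qC (csc P (nC b))) * D.s ^ nC (csc P (nC b)) *
          D.r ^ kC (csc P (nC b)) * (D.r ^ kC b * D.c) * D.s ^ ((u + m * four (kC b) % 7) * 2 ^ kC b) by group, hc2,
        mul_assoc _ (D.c * D.r ^ (2 * kC b)), mul_assoc D.c, hX]
      group

theorem Gen.mulW_spec {w : ℕ} (hw : w < 8) (b : ℕ) : D.η (mulW P w b) = D.W w * D.η b := by
  cases w with
  | zero => rw [Gen.W, one_mul]; rfl
  | succ l =>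
    rw [Gen.W, mulW, D.mulC_spec hP, D.mulS_spec (by omega), mul_assoc]

theorem Gen.η_mul {a : ℕ} (ha : a < 21504) (b : ℕ) : D.η (mul P a b) = D.η a * D.η b := by
  obtain ⟨hq, hn, hk⟩ := dec_lt a
  have hw : wC a < 8 := by unfold wC; omega
  obtain ⟨lq, ln, lk⟩ := dec_lt (mulS (nC a) (mulR (kC a) (mulW P (wC a) b)))
  rw [mul, D.η_mk _ (qm_range hq lq) ln lk, Gen.E, D.B.ι_mul hq lq]
  have h := D.mulS_spec hn (mulR (kC a) (mulW P (wC a) b))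
  rw [D.mulR_spec hk, D.mulW_spec hP hw] at h
  conv at h => lhs; rw [Gen.η, Gen.E]
  rw [show D.B.ι (qC a) * D.B.ι (qC (mulS (nC a) (mulR (kC a) (mulW P (wC a) b)))) *
      D.s ^ nC (mulS (nC a) (mulR (kC a) (mulW P (wC a) b))) * D.r ^ kC (mulS (nC a) (mulR (kC a) (mulW P (wC a) b))) *
      D.W (wC (mulS (nC a) (mulR (kC a) (mulW P (wC a) b)))) = D.B.ι (qC a) *
      (D.B.ι (qC (mulS (nC a) (mulR (kC a) (mulW P (wC a) b)))) *
      D.s ^ nC (mulS (nC a) (mulR (kC a) (mulW P (wC a) b))) * D.r ^ kC (mulS (nC a) (mulR (kC a) (mulW P (wC a) b))) *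
      D.W (wC (mulS (nC a) (mulR (kC a) (mulW P (wC a) b))))) by group, h]
  rw [show D.η a = D.B.ι (qC a) * D.s ^ nC a * D.r ^ kC a * D.W (wC a) from rfl]
  group

end Cfsg.Lib.HeldCent
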