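import Mathlib

/-!
A fixed-point-free automorphism of order 7 of a finite elementary abelian 2-group.
-/

set_option autoImplicit false
set_option linter.unusedSimpArgs false

namespace Cfsg.Lib.HeldCent

open Subgroup

variable {M : Type*} [CommGroup M] (σ : M →* M)

/-- The endomorphism of the first cubic. -/
def cubA : M →* M := σ.comp (σ.comp σ) * σ * MonoidHom.id M

/-- The endomorphism of the second cubic. -/
def cubB : M →* M := σ.comp (σ.comp σ) * σ.comp σ * MonoidHom.id M

theorem cubA_apply (x : M) : cubA σ x = σ (σ (σ x)) * σ x * x := rfl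

theorem cubB_apply (x : M) : cubB σ x = σ (σ (σ x)) * σ (σ x) * x := rfl

variable (h2 : ∀ x : M, x * x = 1) (h7 : ∀ x : M, σ (σ (σ (σ (σ (σ (σ x)))))) = x) (hfix : ∀ x : M, σ x = x → x = 1)

section
include h2
theorem dup_mul (a b : M) : a * (a * b) = b := by rw [← mul_assoc, h2, one_mul]

theorem eq_of_mul_eq_one {a b : M} (h : a * b = 1) : a = b := by rw [← mul_one a, ← h2 b, ← mul_assoc, h, one_mul]
end

section
include h7
theorem σ_inj {x y : M} (h : σ x = σ y) : x = y := by rw [← h7 x, h, h7]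
end

section
include h2 h7 hfix

theorem cub_disjoint {x : M} (ha : cubA σ x = 1) (hb : cubB σ x = 1) : x = 1 := by
  rw [cubA_apply] at ha
  rw [cubB_apply, ← ha] at hb
  exact hfix x (σ_inj σ h7 (mul_left_cancel (mul_right_cancel hb)))

theorem cubB_cubA (x : M) : cubB σ (cubA σ x) = 1 := by
  apply hfix
  simp only [cubA_apply, cubB_apply, map_mul, h7]
  simp only [mul_assoc, mul_comm, mul_left_comm, dup_mul h2]

theorem cubA_cubB (x : M) : cubA σ (cubB σ x) = 1 := by
  apply hfix
  simp only [cubA_apply, cubB_apply, map_mul, h7]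
  simp only [mul_assoc, mul_comm, mul_left_comm, dup_mul h2]

theorem card_cub [Finite M] : Nat.card (cubA σ).ker * Nat.card (cubB σ).ker = Nat.card M := by
  refine le_antisymm ?_ ?_
  · rw [← Nat.card_prod]
    refine Nat.card_le_card_of_injective (fun p => (p.1 : M) * (p.2 : M)) ?_
    rintro ⟨⟨a, ha⟩, ⟨b, hb⟩⟩ ⟨⟨c, hc⟩, ⟨d, hd⟩⟩ h
    simp only at h
    have h1 : a * c = b * d := eq_of_mul_eq_one h2 (by
      calc a * c * (b * d) = (a * b) * (c * d) := by simp only [mul_assoc, mul_comm, mul_left_comm]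
        _ = 1 := by rw [h, h2])
    have h3 : a * c = 1 := cub_disjoint σ h2 h7 hfix
      ((cubA σ).ker.mul_mem ha hc) (h1 ▸ (cubB σ).ker.mul_mem hb hd)
    have e1 : a = c := eq_of_mul_eq_one h2 h3
    subst e1
    exact Prod.ext (Subtype.ext rfl) (Subtype.ext (mul_left_cancel h))
  · rw [← Subgroup.card_mul_index (cubA σ).ker, Subgroup.index_ker]
    refine Nat.mul_le_mul_left _ ?_
    refine Nat.card_le_card_of_injective (fun y : (cubA σ).range => (⟨y.1, ?_⟩ : (cubB σ).ker))
      fun a b h => Subtype.ext (Subtype.mk.inj h)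
    obtain ⟨x, hx⟩ := y.2
    rw [MonoidHom.mem_ker, ← hx]
    exact cubB_cubA σ h2 h7 hfix x

end

/-- The eight products of three elements. -/
def spanEight (a b c : M) (i : Fin 8) : M :=
  (bif i.val.testBit 0 then a else 1) * (bif i.val.testBit 1 then b else 1) * (bif i.val.testBit 2 then c else 1)

section
include h2 h7 hfix

theorem span_eight_inj {x : M} (hx : x ≠ 1) (hcub : cubA σ x = 1 ∨ cubB σ x = 1) :
    Function.Injective (spanEight x (σ x) (σ (σ x))) := by
  have n1 : σ x ≠ x := fun h => hx (hfix x h)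
  have n2 : σ (σ x) ≠ x := fun h => n1 (by
    have := congrArg σ (h7 x)
    rw [h, h, h, h] at this
    exact this.symm)
  have n3 : σ (σ x) ≠ σ x := fun h => n1 (σ_inj σ h7 h)
  have n4 : x * σ x * σ (σ x) ≠ 1 := by
    intro h
    have e : σ (σ x) = x * σ x := (eq_of_mul_eq_one h2 h).symm
    have e3 : σ (σ (σ x)) = x := by
      rw [e, map_mul, e, mul_left_comm, h2, mul_one]
    rcases hcub with hc | hc
    · rw [cubA_apply, e3, mul_comm x (σ x), mul_assoc, h2, mul_one] at hc
      exact hx (σ_inj σ h7 (by rw [hc, map_one]))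
    · rw [cubB_apply, e3, mul_comm x (σ (σ x)), mul_assoc, h2, mul_one] at hc
      exact hx (σ_inj σ h7 (σ_inj σ h7 (by rw [hc, map_one, map_one])))
  have hne : ∀ i : Fin 8, i ≠ 0 → spanEight x (σ x) (σ (σ x)) i ≠ 1 := by
    intro i hi
    fin_cases i <;> simp [spanEight, Nat.testBit, Nat.shiftRight_eq_div_pow] at hi ⊢
    · exact hx
    · exact fun h => hx (σ_inj σ h7 (by rw [h, map_one]))
    · exact fun h => n1 (eq_of_mul_eq_one h2 h).symm
    · exact fun h => hx (σ_inj σ h7 (σ_inj σ h7 (by rw [h, map_one, map_one])))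
    · exact fun h => n2 (eq_of_mul_eq_one h2 h).symm
    · exact fun h => n3 (eq_of_mul_eq_one h2 h).symm
    · exact n4
  have hmul : ∀ i j : Fin 8, spanEight x (σ x) (σ (σ x)) i * spanEight x (σ x) (σ (σ x)) j =
      spanEight x (σ x) (σ (σ x)) (i ^^^ j) := by
    intro i j
    have hb : ∀ k, k < 3 → (i ^^^ j).val.testBit k = (i.val.testBit k ^^ j.val.testBit k) := by
      intro k hk
      revert i j
      interval_cases k <;> decide
    simp only [spanEight, hb 0 (by norm_num), hb 1 (by norm_num), hb 2 (by norm_num)]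
    cases i.val.testBit 0 <;> cases i.val.testBit 1 <;> cases i.val.testBit 2 <;>
      cases j.val.testBit 0 <;> cases j.val.testBit 1 <;> cases j.val.testBit 2 <;>
      simp [mul_assoc, mul_comm, mul_left_comm, h2, dup_mul h2]
  intro i j h
  by_contra hij
  refine hne (i ^^^ j) ?_ (by rw [← hmul, h, h2])
  revert hij
  clear h
  revert i j
  decide

theorem eight_le [Finite M] {A : Subgroup M} (hA : ∀ x ∈ A, σ x ∈ A) {x : M} (hxA : x ∈ A) (hx : x ≠ 1)
    (hcub : cubA σ x = 1 ∨ cubB σ x = 1) : 8 ≤ Nat.card A ∧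
      (Nat.card A = 8 → ∀ y ∈ A, ∃ i, spanEight x (σ x) (σ (σ x)) i = y) := by
  let φ : Fin 8 → A := fun i => ⟨spanEight x (σ x) (σ (σ x)) i, by
    unfold spanEight
    refine A.mul_mem (A.mul_mem ?_ ?_) ?_ <;> cases Nat.testBit _ _ <;>
      first | exact A.one_mem | exact hxA | exact hA _ hxA | exact hA _ (hA _ hxA)⟩
  have hinj : Function.Injective φ := fun a b h => span_eight_inj σ h2 h7 hfix hx hcub (congrArg Subtype.val h)
  refine ⟨by simpa using Nat.card_le_card_of_injective φ hinj, fun h8 y hy => ?_⟩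
  obtain ⟨i, hi⟩ := (hinj.bijective_of_nat_card_le (by rw [h8, Nat.card_fin])).2 ⟨y, hy⟩
  exact ⟨i, congrArg Subtype.val hi⟩

end

end Cfsg.Lib.HeldCent
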