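import Cfsg.Agent.HeldCent.SevenAct
import Cfsg.Agent.LargeExtra.Basic

/-!
An element of order 7 acting on an extraspecial group of order 128 splits it into two abelian halves.
-/

set_option autoImplicit false
set_option linter.unusedSimpArgs false
set_option linter.unusedSectionVars false

namespace Cfsg.Lib.HeldCent

open Subgroup
open scoped commutatorElement

/-- An extraspecial normal subgroup of order 128 with an element of order 7 outside. -/
structure Core (C : Type*) [Group C] [Finite C] where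
  Q : Subgroup C
  norm : Q.Normal
  t : C
  s : C
  x2 : Cfsg.Lib.LargeExtra.X2 Q t
  tc : ∀ g : C, t * g = g * t
  card : Nat.card Q = 128
  s7 : s ^ 7 = 1
  self : ∀ c : C, (∀ q ∈ Q, c * q = q * c) → c ∈ Q
  sQ : s ∉ Q

variable {C : Type*} [Group C] [Finite C] (K : Core C)

instance Core.T_normal : (zpowers K.t).Normal := ⟨fun x hx g => by
  obtain ⟨i, rfl⟩ := mem_zpowers_iff.mp hx
  have : Commute (K.t ^ i) g := (show Commute K.t g from K.tc g).zpow_left i
  rw [← this.eq, mul_inv_cancel_right]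
  exact zpow_mem (mem_zpowers _) _⟩

/-- The quotient map by the centre. -/
def Core.π : C →* C ⧸ zpowers K.t := QuotientGroup.mk' _

theorem Core.π_eq_one {x : C} : K.π x = 1 ↔ x = 1 ∨ x = K.t :=
  (QuotientGroup.eq_one_iff x).trans (Cfsg.Lib.LargeExtra.mem_zpowers_two K.x2.zz)

theorem Core.π_t : K.π K.t = 1 := K.π_eq_one.mpr (Or.inr rfl)

/-- The image of the normal subgroup. -/
abbrev Core.V : Type _ := ↥(K.Q.map K.π)

theorem Core.π_comm {a b : C} (ha : a ∈ K.Q) (hb : b ∈ K.Q) : K.π a * K.π b = K.π b * K.π a := by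
  rcases K.x2.comm a ha b hb with e | e <;> rw [commutatorElement_def, mul_inv_eq_iff_eq_mul, mul_inv_eq_iff_eq_mul] at e <;>
    rw [← map_mul, ← map_mul, e] <;> simp [K.π_t]

instance Core.commGroup : CommGroup K.V :=
  { (inferInstance : Group K.V) with
    mul_comm := by
      rintro ⟨_, a, ha, rfl⟩ ⟨_, b, hb, rfl⟩
      exact Subtype.ext (K.π_comm ha hb) }

theorem Core.V_sq (x : K.V) : x * x = 1 := by
  obtain ⟨_, a, ha, rfl⟩ := x
  exact Subtype.ext (by show K.π a * K.π a = 1; rw [← map_mul]; exact K.π_eq_one.mpr (K.x2.sq a ha))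

/-- A lifted element of the image. -/
def Core.v (x : C) (hx : x ∈ K.Q) : K.V := ⟨K.π x, mem_map_of_mem _ hx⟩

theorem Core.exists_v (x : K.V) : ∃ a, ∃ ha : a ∈ K.Q, K.v a ha = x := by
  obtain ⟨_, a, ha, rfl⟩ := x
  exact ⟨a, ha, rfl⟩

/-- Conjugation by the element of order 7. -/
def Core.sc (x : C) : C := K.s * x * K.s⁻¹

theorem Core.sc_mem {x : C} (hx : x ∈ K.Q) : K.sc x ∈ K.Q := K.norm.conj_mem x hx K.s

/-- The action on the image. -/
def Core.σ : K.V →* K.V where
  toFun x := ⟨K.π K.s * x.1 * (K.π K.s)⁻¹, by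
    obtain ⟨_, a, ha, rfl⟩ := x
    exact ⟨K.s * a * K.s⁻¹, K.norm.conj_mem a ha K.s, by simp⟩⟩
  map_one' := Subtype.ext (by simp)
  map_mul' a b := Subtype.ext (by simp only [Subgroup.coe_mul]; group)

theorem Core.σ_v {x : C} (hx : x ∈ K.Q) : K.σ (K.v x hx) = K.v (K.sc x) (K.sc_mem hx) :=
  Subtype.ext (by simp [Core.σ, Core.v, Core.sc])

theorem Core.σ7 (x : K.V) : K.σ (K.σ (K.σ (K.σ (K.σ (K.σ (K.σ x)))))) = x := by
  apply Subtype.ext
  have h : K.π K.s ^ 7 = 1 := by rw [← map_pow, K.s7, map_one]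
  show _ = (x : C ⧸ zpowers K.t)
  calc _ = K.π K.s ^ 7 * x.1 * (K.π K.s ^ 7)⁻¹ := by
        simp only [Core.σ, MonoidHom.coe_mk, OneHom.coe_mk, pow_succ, pow_zero, one_mul, mul_inv_rev, mul_assoc]
    _ = _ := by rw [h]; group

/-- The commutator of two lifts. -/
theorem Core.comm_mul {a b c : C} (ha : a ∈ K.Q) (hb : b ∈ K.Q) (hc : c ∈ K.Q) : ⁅a * b, c⁆ = ⁅a, c⁆ * ⁅b, c⁆ := by
  have e : ⁅a * b, c⁆ = a * ⁅b, c⁆ * a⁻¹ * ⁅a, c⁆ := by simp only [commutatorElement_def]; group
  rcases K.x2.comm b hb c hc with h | h <;> rw [e, h]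
  · simp
  · rw [← K.tc a, mul_inv_cancel_right, K.tc]

theorem Core.comm_t {b : C} : ⁅K.t, b⁆ = 1 := commutatorElement_eq_one_iff_mul_comm.mpr (K.tc b)

theorem Core.comm_sc (a b : C) (ha : a ∈ K.Q) (hb : b ∈ K.Q) : ⁅K.sc a, K.sc b⁆ = ⁅a, b⁆ := by
  have e : ⁅K.sc a, K.sc b⁆ = K.s * ⁅a, b⁆ * K.s⁻¹ := by simp only [Core.sc, commutatorElement_def]; group
  rcases K.x2.comm a ha b hb with h | h <;> rw [e, h]
  · simp
  · rw [← K.tc K.s, mul_inv_cancel_right]

theorem Core.sc_seven (a : C) : K.sc (K.sc (K.sc (K.sc (K.sc (K.sc (K.sc a)))))) = a := by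
  calc _ = K.s ^ 7 * a * (K.s ^ 7)⁻¹ := by
        simp only [Core.sc, pow_succ, pow_zero, one_mul, mul_inv_rev, mul_assoc]
    _ = a := by rw [K.s7]; group

theorem Core.sc_mul (a b : C) : K.sc (a * b) = K.sc a * K.sc b := by simp only [Core.sc]; group

/-- The fixed points. -/
def Core.Fix : Subgroup K.V where
  carrier := {x | K.σ x = x}
  one_mem' := map_one K.σ
  mul_mem' := fun {a b} ha hb => by simp only [Set.mem_setOf_eq] at ha hb ⊢; rw [map_mul, ha, hb]
  inv_mem' := fun {a} ha => by simp only [Set.mem_setOf_eq] at ha ⊢; rw [map_inv, ha]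

/-- The moved part. -/
def Core.Mov : Subgroup K.V := (K.σ * MonoidHom.id K.V).range

theorem Core.σ_Mov {x : K.V} (hx : x ∈ K.Mov) : K.σ x ∈ K.Mov := by
  obtain ⟨y, rfl⟩ := hx
  exact ⟨K.σ y, by simp [MonoidHom.mul_apply]⟩

/-- The action on the moved part. -/
def Core.σM : K.Mov →* K.Mov := (K.σ.comp K.Mov.subtype).codRestrict K.Mov fun x => K.σ_Mov x.2

theorem Core.σM_val (x : K.Mov) : (K.σM x : K.V) = K.σ x := rfl

theorem Core.σM7 (x : K.Mov) : K.σM (K.σM (K.σM (K.σM (K.σM (K.σM (K.σM x)))))) = x :=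
  Subtype.ext (K.σ7 x.1)

theorem Core.σM_fix (x : K.Mov) (h : K.σM x = x) : x = 1 := by
  obtain ⟨w, y, hy⟩ := x
  have hw : K.σ w = w := congrArg Subtype.val h
  have h2 := K.V_sq
  have hy' : K.σ y = y * w := by
    rw [← hy]
    show K.σ y = y * (K.σ y * y)
    rw [mul_comm (K.σ y) y, dup_mul h2]
  have h7 := K.σ7 y
  simp only [hy', map_mul, hw, mul_assoc, dup_mul h2, h2, mul_one] at h7
  exact Subtype.ext (mul_eq_left.mp h7)

theorem Core.M_sq (x : K.Mov) : x * x = 1 := Subtype.ext (K.V_sq x.1)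

theorem Core.card_Fix_Mov : Nat.card K.Fix * Nat.card K.Mov = Nat.card K.V := by
  have hk : (K.σ * MonoidHom.id K.V).ker = K.Fix := by
    ext x
    show K.σ x * x = 1 ↔ K.σ x = x
    exact ⟨fun h => eq_of_mul_eq_one K.V_sq h, fun h => by rw [h]; exact K.V_sq x⟩
  rw [← hk, Core.Mov, ← Subgroup.index_ker, Subgroup.card_mul_index]

/-- Lifts of fixed points commute with lifts of moved points. -/
theorem Core.fix_mov {f u : C} (hf : f ∈ K.Q) (hu : u ∈ K.Q) (hF : K.v f hf ∈ K.Fix) (hM : K.v u hu ∈ K.Mov) :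
    ⁅f, u⁆ = 1 := by
  obtain ⟨y, hy⟩ := hM
  obtain ⟨a, ha, rfl⟩ := K.exists_v y
  have hF' : K.σ (K.v f hf) = K.v f hf := hF
  rw [K.σ_v hf] at hF'
  have h1 : ⁅K.sc f, K.sc a⁆ = ⁅f, a⁆ := K.comm_sc f a hf ha
  have hfc : ∀ b ∈ K.Q, ⁅K.sc f, b⁆ = ⁅f, b⁆ := by
    intro b hb
    have e : K.π (f⁻¹ * K.sc f) = 1 := by
      rw [map_mul, map_inv, show K.π (K.sc f) = K.π f from congrArg Subtype.val hF', inv_mul_cancel]
    have : K.sc f = f * (f⁻¹ * K.sc f) := (mul_inv_cancel_left f _).symm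
    rw [this, K.comm_mul hf (mul_mem (inv_mem hf) (K.sc_mem hf)) hb]
    rcases K.π_eq_one.mp e with e | e <;> simp [e, K.comm_t]
  rw [hfc _ (K.sc_mem ha)] at h1
  -- `u` is `sc a * a` up to the centre
  have e : K.π (u⁻¹ * (K.sc a * a)) = 1 := by
    have hy' := congrArg Subtype.val hy
    simp only [MonoidHom.mul_apply, MonoidHom.id_apply, K.σ_v ha] at hy'
    rw [map_mul, map_inv, map_mul]
    rw [show K.π u = K.π (K.sc a) * K.π a from hy'.symm]
    exact inv_mul_cancel _
  have hp : ⁅K.sc a * a, f⁆ = ⁅u, f⁆ := by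
    rw [← mul_inv_cancel_left u (K.sc a * a),
      K.comm_mul hu (mul_mem (inv_mem hu) (mul_mem (K.sc_mem ha) ha)) hf]
    rcases K.π_eq_one.mp e with e | e <;> simp [e, K.comm_t]
  rw [K.comm_mul (K.sc_mem ha) ha hf] at hp
  have sym : ∀ x ∈ K.Q, ⁅x, f⁆ = ⁅f, x⁆ := fun x hx => by
    rw [← commutatorElement_inv]
    rcases K.x2.comm f hf x hx with h | h <;> simp [h, K.x2.inv_z]
  rw [sym _ (K.sc_mem ha), sym _ ha, sym _ hu, h1] at hp
  rcases K.x2.comm f hf a ha with h | h <;> rw [h] at hp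
  · simpa using hp.symm
  · rw [K.x2.zz] at hp
    exact hp.symm

/-- Lifts of the kernel of one cubic commute, given that the other cubic has a suitable adjoint. -/
theorem Core.isotropic {a a' : C} (ha : a ∈ K.Q) (ha' : a' ∈ K.Q)
    (i : Bool) (hA : (bif i then cubB K.σ (K.v a ha) else cubA K.σ (K.v a ha)) = 1)
    {b : C} (hb : b ∈ K.Q)
    (hB : (bif i then cubA K.σ (K.v b hb) else cubB K.σ (K.v b hb)) = K.v a' ha') : ⁅a, a'⁆ = 1 := by
  have m := fun {x : C} (hx : x ∈ K.Q) => K.sc_mem hx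
  -- moving the action across the commutator
  have flip : ∀ {x : C}, x ∈ K.Q → ∀ {y : C}, y ∈ K.Q →
      ⁅x, K.sc y⁆ = ⁅K.sc (K.sc (K.sc (K.sc (K.sc (K.sc x))))), y⁆ := by
    intro x hx y hy
    rw [← K.comm_sc _ y (m (m (m (m (m (m hx)))))) hy, K.sc_seven]
  have key : ∀ w ∈ K.Q, K.π w = 1 → ∀ y : C, ⁅w, y⁆ = 1 := by
    intro w _ h y
    rcases K.π_eq_one.mp h with rfl | rfl <;> simp [K.comm_t]
  have trans : ∀ w (hw : w ∈ K.Q), K.v w hw = K.v a' ha' → ⁅a, a'⁆ = ⁅a, w⁆ := by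
    intro w hw h
    have h' : K.π (a'⁻¹ * w) = 1 := by
      rw [map_mul, map_inv, show K.π w = K.π a' from congrArg Subtype.val h, inv_mul_cancel]
    have e : w = a' * (a'⁻¹ * w) := (mul_inv_cancel_left a' w).symm
    conv_rhs => rw [e, ← commutatorElement_inv]
    rw [K.comm_mul ha' (mul_mem (inv_mem ha') hw) ha, key _ (mul_mem (inv_mem ha') hw) h', mul_one,
      commutatorElement_inv]
  have right : ∀ {x y : C}, x ∈ K.Q → y ∈ K.Q → ⁅a, x * y⁆ = ⁅a, y⁆ * ⁅a, x⁆ := by
    intro x y hx hy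
    rw [← commutatorElement_inv, K.comm_mul hx hy ha, mul_inv_rev, commutatorElement_inv, commutatorElement_inv]
  have h2 := K.V_sq
  cases i
  · simp only [cond_false] at hA hB
    rw [cubB_apply] at hB
    rw [trans (K.sc (K.sc (K.sc b)) * K.sc (K.sc b) * b) (mul_mem (mul_mem (m (m (m hb))) (m (m hb))) hb)
      (by rw [← hB, K.σ_v, K.σ_v, K.σ_v]; rfl)]
    rw [right (mul_mem (m (m (m hb))) (m (m hb))) hb, right (m (m (m hb))) (m (m hb))]
    repeat rw [flip (by first | exact ha | repeat (first | exact ha | apply m)) (by first | exact hb | repeat (first | exact hb | apply m))]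
    simp only [K.sc_seven]
    rw [← K.comm_mul (by repeat (first | exact ha | apply m)) (by repeat (first | exact ha | apply m)) hb,
      ← K.comm_mul ha (mul_mem (by repeat (first | exact ha | apply m)) (by repeat (first | exact ha | apply m))) hb]
    refine key _ (mul_mem ha (mul_mem (by repeat (first | exact ha | apply m)) (by repeat (first | exact ha | apply m)))) ?_ b
    have h3 : K.σ (K.σ (K.σ (K.v a ha))) = K.σ (K.v a ha) * K.v a ha := by
      rw [cubA_apply, mul_assoc] at hA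
      exact eq_of_mul_eq_one h2 hA
    have : K.v a ha * (K.σ (K.σ (K.σ (K.σ (K.σ (K.v a ha))))) * K.σ (K.σ (K.σ (K.σ (K.v a ha))))) = 1 := by
      simp only [h3, map_mul, mul_assoc, mul_comm, mul_left_comm, dup_mul h2, h2, mul_one]
    simp only [K.σ_v] at this
    have := congrArg Subtype.val this
    simp only [Subgroup.coe_mul, Core.v, Subgroup.coe_one] at this
    simpa only [map_mul] using this
  · simp only [cond_true] at hA hB
    rw [cubA_apply] at hB
    rw [trans (K.sc (K.sc (K.sc b)) * K.sc b * b) (mul_mem (mul_mem (m (m (m hb))) (m hb)) hb)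
      (by rw [← hB, K.σ_v, K.σ_v, K.σ_v]; rfl)]
    rw [right (mul_mem (m (m (m hb))) (m hb)) hb, right (m (m (m hb))) (m hb)]
    repeat rw [flip (by first | exact ha | repeat (first | exact ha | apply m)) (by first | exact hb | repeat (first | exact hb | apply m))]
    simp only [K.sc_seven]
    rw [← K.comm_mul (by repeat (first | exact ha | apply m)) (by repeat (first | exact ha | apply m)) hb,
      ← K.comm_mul ha (mul_mem (by repeat (first | exact ha | apply m)) (by repeat (first | exact ha | apply m))) hb]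
    refine key _ (mul_mem ha (mul_mem (by repeat (first | exact ha | apply m)) (by repeat (first | exact ha | apply m)))) ?_ b
    have h3 : K.σ (K.σ (K.σ (K.v a ha))) = K.σ (K.σ (K.v a ha)) * K.v a ha := by
      rw [cubB_apply, mul_assoc] at hA
      exact eq_of_mul_eq_one h2 hA
    have : K.v a ha * (K.σ (K.σ (K.σ (K.σ (K.σ (K.σ (K.v a ha)))))) * K.σ (K.σ (K.σ (K.σ (K.v a ha))))) = 1 := by
      simp only [h3, map_mul, mul_assoc, mul_comm, mul_left_comm, dup_mul h2, h2, mul_one]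
    simp only [K.σ_v] at this
    have := congrArg Subtype.val this
    simp only [Subgroup.coe_mul, Core.v, Subgroup.coe_one] at this
    simpa only [map_mul] using this

/-- One kernel in the moved part. -/
def Core.ker (i : Bool) : Subgroup K.Mov := bif i then (cubB K.σM).ker else (cubA K.σM).ker

theorem Core.ker_isotropic {i : Bool} {a a' : C} (ha : a ∈ K.Q) (ha' : a' ∈ K.Q)
    (hM : K.v a ha ∈ K.Mov) (hM' : K.v a' ha' ∈ K.Mov)
    (h : (⟨_, hM⟩ : K.Mov) ∈ K.ker i) (h' : (⟨_, hM'⟩ : K.Mov) ∈ K.ker i) : ⁅a, a'⁆ = 1 := by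
  let g : K.Mov →* K.Mov := bif i then cubA K.σM else cubB K.σM
  have hg : ∀ x ∈ K.ker i, g x ∈ K.ker i ∧ (g x = 1 → x = 1) := by
    intro x hx
    cases i
    · refine ⟨?_, fun h1 => cub_disjoint K.σM K.M_sq K.σM7 K.σM_fix hx h1⟩
      exact cubA_cubB K.σM K.M_sq K.σM7 K.σM_fix x
    · refine ⟨?_, fun h1 => cub_disjoint K.σM K.M_sq K.σM7 K.σM_fix h1 hx⟩
      exact cubB_cubA K.σM K.M_sq K.σM7 K.σM_fix x
  let gk : K.ker i →* K.ker i := (g.comp (K.ker i).subtype).codRestrict _ fun x => (hg x.1 x.2).1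
  have hinj : Function.Injective gk := (injective_iff_map_eq_one gk).mpr fun x hx =>
    Subtype.ext ((hg x.1 x.2).2 (congrArg Subtype.val hx))
  obtain ⟨⟨⟨y, hy⟩, hyk⟩, he⟩ := hinj.bijective_of_nat_card_le le_rfl |>.2 ⟨_, h'⟩
  obtain ⟨b, hb, rfl⟩ := K.exists_v y
  refine K.isotropic ha ha' i ?_ hb ?_
  · cases i <;> exact congrArg Subtype.val h
  · have := congrArg (fun z : K.ker i => ((z : K.Mov) : K.V)) he
    cases i <;> exact this

theorem Core.mov_ne_one : K.Mov ≠ ⊥ := by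
  intro hM
  refine K.sQ (K.self _ fun q hq => ?_)
  have h1 : (K.σ * MonoidHom.id K.V) (K.v q hq) ∈ K.Mov := ⟨_, rfl⟩
  rw [hM, Subgroup.mem_bot] at h1
  have e : K.sc q = q ∨ K.sc q = q * K.t := by
    have h2 : K.σ (K.v q hq) = K.v q hq := eq_of_mul_eq_one K.V_sq h1
    rw [K.σ_v] at h2
    rcases K.π_eq_one.mp (show K.π (q⁻¹ * K.sc q) = 1 by
      rw [map_mul, map_inv, show K.π (K.sc q) = K.π q from congrArg Subtype.val h2, inv_mul_cancel]) with e | e
    · exact Or.inl (inv_mul_eq_one.mp e).symm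
    · exact Or.inr (inv_mul_eq_iff_eq_mul.mp e)
  rcases e with e | e
  · exact mul_inv_eq_iff_eq_mul.mp e
  · exfalso
    have hst : K.sc K.t = K.t := by simp [Core.sc, ← K.tc K.s]
    have h7 := K.sc_seven q
    simp only [e, K.sc_mul, hst, mul_assoc, K.x2.zz, mul_one] at h7
    exact K.x2.ne (mul_eq_left.mp h7)

theorem Core.card_V : Nat.card K.V = 64 := by
  have h := K.π.ker
  have hk : (K.π.comp K.Q.subtype).ker = (zpowers K.t).subgroupOf K.Q := by
    ext x
    exact QuotientGroup.eq_one_iff (x : C)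
  have h1 := Subgroup.card_mul_index (K.π.comp K.Q.subtype).ker
  rw [Subgroup.index_ker, K.card, MonoidHom.range_comp, Subgroup.range_subtype, hk,
    Nat.card_congr (Subgroup.subgroupOfEquivOfLe (zpowers_le.mpr K.x2.mem)).toEquiv, Nat.card_zpowers,
    orderOf_eq_prime (p := 2) (by rw [pow_two]; exact K.x2.zz) K.x2.ne] at h1
  show Nat.card (K.Q.map K.π) = 64
  omega

/-- Both kernels have order 8 and nothing is fixed. -/
theorem Core.sizes : (∀ x : K.V, K.σ x = x → x = 1) ∧
    Nat.card (cubA K.σ).ker = 8 ∧ Nat.card (cubB K.σ).ker = 8 := by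
  have hprod := card_cub K.σM K.M_sq K.σM7 K.σM_fix
  have hbig : ∀ i, 8 ≤ Nat.card (K.ker i) := by
    intro i
    by_contra hlt
    have htriv : ∀ x ∈ K.ker i, x = 1 := by
      intro x hx
      by_contra h1
      refine hlt (eight_le K.σM K.M_sq K.σM7 K.σM_fix (fun y hy => ?_) hx h1 ?_).1
      · cases i
        all_goals
          simp only [Core.ker, cond_false, cond_true, MonoidHom.mem_ker, cubA_apply, cubB_apply] at hy ⊢
          rw [← map_mul, ← map_mul, hy, map_one]
      · cases i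
        · exact Or.inl hx
        · exact Or.inr hx
    have hone : Nat.card (K.ker i) = 1 := by
      rw [Nat.card_eq_one_iff_unique]
      exact ⟨⟨fun a b => Subtype.ext ((htriv _ a.2).trans (htriv _ b.2).symm)⟩, ⟨1⟩⟩
    have hall : ∀ x : K.Mov, x ∈ K.ker (!i) := by
      have he : Nat.card (K.ker (!i)) = Nat.card K.Mov := by
        cases i <;> simp only [Core.ker, cond_false, cond_true, Bool.not_false, Bool.not_true] at hone ⊢ <;>
          rw [hone] at hprod <;> omega
      intro x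
      rw [(Subgroup.card_eq_iff_eq_top _).mp he]
      exact Subgroup.mem_top x
    refine K.mov_ne_one ((Subgroup.eq_bot_iff_forall _).mpr fun x hx => ?_)
    obtain ⟨u, hu, rfl⟩ := K.exists_v x
    refine Subtype.ext (K.π_eq_one.mpr (K.x2.cen u hu fun a ha => ?_))
    have hsup : ∀ y : K.V, ∃ p ∈ K.Fix, ∃ q ∈ K.Mov, p * q = y := by
      have hinj : Function.Injective (fun pq : K.Fix × K.Mov => (pq.1 : K.V) * pq.2) := by
        rintro ⟨⟨p, hp⟩, ⟨q, hq⟩⟩ ⟨⟨p', hp'⟩, ⟨q', hq'⟩⟩ h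
        simp only at h
        have e : p * p' = q * q' := eq_of_mul_eq_one K.V_sq (by
          calc p * p' * (q * q') = (p * q) * (p' * q') := by simp only [mul_assoc, mul_comm, mul_left_comm]
            _ = 1 := by rw [h, K.V_sq])
        have e1 := K.σM_fix ⟨q * q', mul_mem hq hq'⟩ (Subtype.ext (by
          show K.σ (q * q') = q * q'
          rw [← e]; exact mul_mem hp hp'))
        have e2 : q = q' := eq_of_mul_eq_one K.V_sq (congrArg Subtype.val e1)
        subst e2
        exact Prod.ext (Subtype.ext (mul_right_cancel h)) (Subtype.ext rfl)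
      intro y
      obtain ⟨⟨p, q⟩, hpq⟩ := (hinj.bijective_of_nat_card_le (by rw [Nat.card_prod, K.card_Fix_Mov])).2 y
      exact ⟨p, p.2, q, q.2, hpq⟩
    obtain ⟨p, hp, q, hq, he⟩ := hsup (K.v a ha)
    obtain ⟨f, hf, rfl⟩ := K.exists_v p
    obtain ⟨w, hw, rfl⟩ := K.exists_v q
    have c1 : Commute f u := commutatorElement_eq_one_iff_mul_comm.mp (K.fix_mov hf hu hp hx)
    have c2 : Commute w u := commutatorElement_eq_one_iff_mul_comm.mp
      (K.ker_isotropic hw hu hq hx (hall _) (hall _))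
    rcases K.π_eq_one.mp (show K.π ((f * w)⁻¹ * a) = 1 by
      rw [map_mul, map_inv, show K.π a = K.π (f * w) by rw [map_mul]; exact (congrArg Subtype.val he).symm,
        inv_mul_cancel]) with e | e
    · rw [← inv_mul_eq_one.mp e]
      exact c1.mul_left c2
    · rw [inv_mul_eq_iff_eq_mul.mp e]
      exact (c1.mul_left c2).mul_left (K.tc u)
  have h64 := K.card_Fix_Mov
  rw [K.card_V] at h64
  have hA : 8 ≤ Nat.card (cubA K.σM).ker := hbig false
  have hB : 8 ≤ Nat.card (cubB K.σM).ker := hbig true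
  have hm : 64 ≤ Nat.card K.Mov := hprod ▸ Nat.mul_le_mul hA hB
  have hfp : 0 < Nat.card K.Fix := Nat.card_pos
  have hM64 : Nat.card K.Mov = 64 := by
    refine le_antisymm ?_ hm
    rw [← h64]
    exact Nat.le_mul_of_pos_left _ hfp
  rw [hM64] at h64
  have hF1 : Nat.card K.Fix = 1 := by omega
  have hfix : ∀ x : K.V, K.σ x = x → x = 1 := fun x hx => by
    have := (Nat.card_eq_one_iff_unique.mp hF1).1.elim (⟨x, hx⟩ : K.Fix) 1
    exact congrArg Subtype.val this
  have hp := card_cub K.σ K.V_sq K.σ7 hfix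
  rw [K.card_V] at hp
  have e8 : ∀ {f : K.Mov →* K.Mov} {g : K.V →* K.V}, (∀ x : K.Mov, (f x : K.V) = g x) →
      Nat.card f.ker ≤ Nat.card g.ker := fun {f g} hfg =>
    Nat.card_le_card_of_injective (fun x : f.ker => (⟨x.1.1, by
      rw [MonoidHom.mem_ker, ← hfg x.1, MonoidHom.mem_ker.mp x.2]; rfl⟩ : g.ker))
      fun a b h => Subtype.ext (Subtype.ext (Subtype.mk.inj h))
  have hA' := hA.trans (e8 (f := cubA K.σM) (g := cubA K.σ) fun _ => rfl)
  have hB' := hB.trans (e8 (f := cubB K.σM) (g := cubB K.σ) fun _ => rfl)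
  refine ⟨hfix, ?_, ?_⟩ <;> nlinarith

/-- Lifts of a kernel commute. -/
theorem Core.kernel_comm (i : Bool) {a a' : C} (ha : a ∈ K.Q) (ha' : a' ∈ K.Q)
    (h : (bif i then cubB K.σ (K.v a ha) else cubA K.σ (K.v a ha)) = 1)
    (h' : (bif i then cubB K.σ (K.v a' ha') else cubA K.σ (K.v a' ha')) = 1) : a * a' = a' * a := by
  obtain ⟨hfix, -, -⟩ := K.sizes
  have hall : ∀ x : K.V, x ∈ K.Mov := by
    have hinj : Function.Injective (K.σ * MonoidHom.id K.V : K.V →* K.V) := (injective_iff_map_eq_one _).mpr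
      fun x hx => hfix x (eq_of_mul_eq_one K.V_sq hx)
    exact fun x => (hinj.bijective_of_nat_card_le le_rfl).2 x
  refine commutatorElement_eq_one_iff_mul_comm.mp (K.ker_isotropic (i := i) ha ha' (hall _) (hall _) ?_ ?_)
  · cases i <;> exact Subtype.ext h
  · cases i <;> exact Subtype.ext h'

end Cfsg.Lib.HeldCent
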